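import Mathlib
import Cfsg.Agent.H902.Zs_m3
import Cfsg.Agent.H66.Cod.Base
import Cfsg.Agent.H902.AltLie
import Cfsg.Agent.H902.EntsFast
import Cfsg.Agent.H66.Cod.Uniq
import Cfsg.Agent.H78.CodL
import Cfsg.Agent.H495.Cod.Simple
import Cfsg.Agent.H364.LieNam
import Cfsg.Agent.S4198
import Cfsg.Agent.Prune
set_option linter.all false

section
prune_inst 0x7ffffffffffff7feffff7e7ffff9fffe3bd7dfffffdffb4bfffffbffbfffb3ff3bedfba71de4f8ff8ed7e6b638b97853fb7eefffef6fdc7ffffdfff45ffbee5ff7ffbf8931d79d74cf7c6ffffbf17fee7f3fffffffffffffffffffffffffffffffffffffffff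

-- part: H719/Dom4
section
prune_inst 0x100000000000000000000000000000000000000004000000000000408000000004020004900008400008110000000200000000003000000200000002040000200300280000002001180c00000000000000000000000000000000000000000
set_option linter.all false
open scoped Cfsg.Agent.FastGrp

/-!
# The `r`-part of the order of the simple groups `F₄, E₆, E₇, E₈` for `r` not the characteristic:
it is less than the fourth root of the order
-/

set_option autoImplicit false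

namespace Cfsg.Agent.H719.Dom4

open Finset Cfsg.Agent.H902.Lte Cfsg.Agent.H902.Art

/-- the symplectic product: `r`-part at most `q^(2m)` with two exceptions -/
theorem PC_le2 {r q : ℕ} (hr : r.Prime) (hq : 2 ≤ q) (hrq : ¬ r ∣ q) (h23 : ¬ (q = 2 ∧ r = 3))
    (h32 : ¬ (q = 3 ∧ r = 2)) (m : ℕ) :
    P r (∏ i ∈ range m, (q ^ (2 * (i + 1)) - 1)) ≤ q ^ (2 * m) := by
  have hq0 : 0 < q := by omega
  by_cases hr2 : r = 2
  · subst hr2
    have hodd : Odd q := Nat.not_even_iff_odd.1 fun h => hrq h.two_dvd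
    have hq5 : 5 ≤ q := by
      rcases hodd with ⟨k, hk⟩
      by_contra hlt
      have : q = 3 := by omega
      exact h32 ⟨this, rfl⟩
    rcases Nat.eq_zero_or_pos m with rfl | hm
    · simp [P]
    · have h1 := PC_two (by omega) hodd hm
      have h2 : 4 * (q + 1) ≤ q ^ 2 := by nlinarith
      calc P 2 (∏ i ∈ range m, (q ^ (2 * (i + 1)) - 1)) ≤
            2 * P 2 (∏ i ∈ range m, (q ^ (2 * (i + 1)) - 1)) := by omega
        _ ≤ (4 * (q + 1)) ^ m := h1
        _ ≤ (q ^ 2) ^ m := Nat.pow_le_pow_left h2 m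
        _ = q ^ (2 * m) := by rw [pow_mul]
  · obtain ⟨e, he, h1, h | ⟨hem, h⟩⟩ := PC_odd hr hr2 hq hrq m
    · rw [h.2]; exact Nat.one_le_pow _ _ hq0
    · apply le_of_sq_le
      refine h.trans ?_
      have h3 : 3 * (q ^ e + 1) ^ 2 ≤ q ^ (4 * e) := by
        have hx : 3 ≤ q ^ e := by
          rcases Nat.lt_or_ge q 3 with h3 | h3
          · have hq2 : q = 2 := by omega
            subst hq2
            have he2 : 2 ≤ e := by
              by_contra hlt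
              have he1 : e = 1 := by omega
              have h5 := h1 he1
              norm_num at h5
              exact h23 ⟨rfl, (Nat.prime_dvd_prime_iff_eq hr Nat.prime_three).1 h5⟩
            calc 3 ≤ 2 ^ 2 := by norm_num
              _ ≤ 2 ^ e := Nat.pow_le_pow_right (by norm_num) he2
          · exact h3.trans (Nat.le_self_pow (by omega) q)
        have h5 : q ^ (4 * e) = (q ^ e) ^ 2 * (q ^ e) ^ 2 := by
          rw [← pow_add, ← pow_mul]; congr 1; ring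
        rw [h5]
        generalize q ^ e = x at hx
        have h6 : 9 ≤ x ^ 2 := by nlinarith
        have h7 : 9 * x ^ 2 ≤ x ^ 2 * x ^ 2 := Nat.mul_le_mul_right _ h6
        refine le_trans ?_ h7
        nlinarith
      have ha : 1 ≤ m / e := Nat.div_pos hem (by omega)
      have hae : m / e * e ≤ m := Nat.div_mul_le_self m e
      calc ((q ^ e + 1) ^ 2) ^ (m / e) * 3 ^ (m / e - 1) ≤
            ((q ^ e + 1) ^ 2) ^ (m / e) * 3 ^ (m / e) :=
            Nat.mul_le_mul_left _ (Nat.pow_le_pow_right (by norm_num) (by omega))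
        _ = (3 * (q ^ e + 1) ^ 2) ^ (m / e) := by rw [← mul_pow, mul_comm]
        _ ≤ (q ^ (4 * e)) ^ (m / e) := Nat.pow_le_pow_left h3 _
        _ = q ^ ((4 * e) * (m / e)) := by rw [← pow_mul]
        _ ≤ q ^ (2 * (2 * m)) := Nat.pow_le_pow_right hq0 (by nlinarith)
        _ = (q ^ (2 * m)) ^ 2 := by rw [← pow_mul]; ring

theorem sub_prod_le2 {r q : ℕ} (hr : r.Prime) (hq : 2 ≤ q) (hrq : ¬ r ∣ q)
    (h23 : ¬ (q = 2 ∧ r = 3)) (h32 : ¬ (q = 3 ∧ r = 2)) (s : Finset ℕ) (m : ℕ)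
    (hs : s ⊆ range m) {N : ℕ} (hN : N ∣ ∏ i ∈ s, (q ^ (2 * (i + 1)) - 1)) :
    P r N ≤ q ^ (2 * m) := by
  have h2 : ∏ i ∈ range m, (q ^ (2 * (i + 1)) - 1) ≠ 0 :=
    Finset.prod_ne_zero_iff.2 fun i _ => sub_one_ne hq (by omega)
  exact (P_mono hr h2 (hN.trans (Finset.prod_dvd_prod_of_subset _ _ _ hs))).trans
    (PC_le2 hr hq hrq h23 h32 m)

/-- `r` does not divide a power of the characteristic -/
theorem not_dvd_q {p r f : ℕ} (hp : p.Prime) (hr : r.Prime) (hrp : r ≠ p) : ¬ r ∣ p ^ f := fun h =>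
  hrp ((Nat.prime_dvd_prime_iff_eq hr hp).1 (hr.dvd_of_dvd_pow h))

theorem P_M_le {X : Sh} {p f M r : ℕ} (h : Real X p f M) (hr : r.Prime) (hrp : r ≠ p)
    (hn : num X (p ^ f) ≠ 0) : P r M ≤ P r (num X (p ^ f)) := by
  have hq0 : (p ^ f) ^ NN X ≠ 0 := pow_ne_zero _ (pow_ne_zero _ h.hp.ne_zero)
  have h1 : M ∣ (p ^ f) ^ NN X * num X (p ^ f) := ⟨dd X (p ^ f), by rw [← h.eq, mul_comm]⟩
  refine (P_mono hr (mul_ne_zero hq0 hn) h1).trans ?_
  rw [P_mul hq0 hn, P_eq_one, one_mul]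
  intro h2
  exact not_dvd_q h.hp hr hrp (hr.dvd_of_dvd_pow h2)

theorem two_le_q {X : Sh} {p f M : ℕ} (h : Real X p f M) : 2 ≤ p ^ f :=
  h.hp.two_le.trans (Nat.le_self_pow (by have := h.hf; omega) p)

theorem half {q a : ℕ} (hq : 2 ≤ q) (ha : 2 ≤ a) : q ^ a < 2 * (q ^ a - 1) := by
  have h1 : 2 ^ 2 ≤ q ^ a := (Nat.pow_le_pow_left hq 2).trans (Nat.pow_le_pow_right (by omega) ha)
  omega

theorem dom4_F4 {p f M r : ℕ} (h : Real .F4 p f M) (hr : r.Prime) (hrp : r ≠ p) :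
    (P r M) ^ 4 < M := by
  have hq := two_le_q h
  have hrq : ¬ r ∣ p ^ f := not_dvd_q h.hp hr hrp
  have hn : num .F4 (p ^ f) ≠ 0 := num_ne_zero hq .F4 (by simp)
  have hle := P_M_le h hr hrp hn
  have heq : M = (p ^ f) ^ 24 * num .F4 (p ^ f) := by
    have := h.eq
    change 1 * M = (p ^ f) ^ 24 * _ at this
    rwa [one_mul] at this
  clear h
  generalize p ^ f = q at *
  by_cases h23 : q = 2 ∧ r = 3
  · obtain ⟨rfl, rfl⟩ := h23
    have h1 : num .F4 2 = 3 ^ 6 * 270725 := by rfl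
    have h2 : P 3 (num .F4 2) = 3 ^ 6 := by
      rw [h1, P_pow_self Nat.prime_three (by norm_num)]
    rw [h2] at hle
    calc P 3 M ^ 4 ≤ (3 ^ 6) ^ 4 := Nat.pow_le_pow_left hle 4
      _ < 2 ^ 24 * (3 ^ 6 * 270725) := by norm_num
      _ = M := by rw [heq, h1]
  by_cases h32 : q = 3 ∧ r = 2
  · obtain ⟨rfl, rfl⟩ := h32
    have h1 : num .F4 3 = 2 ^ 15 * 619625825 := by norm_num [num]
    have h2 : P 2 (num .F4 3) = 2 ^ 15 := by
      rw [h1, P_pow_self Nat.prime_two (by norm_num)]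
    rw [h2] at hle
    calc P 2 M ^ 4 ≤ (2 ^ 15) ^ 4 := Nat.pow_le_pow_left hle 4
      _ < 3 ^ 24 * (2 ^ 15 * 619625825) := by norm_num
      _ = M := by rw [heq, h1]
  have h1 : P r (num .F4 q) ≤ q ^ (2 * 6) := by
    refine sub_prod_le2 hr hq hrq h23 h32 {0, 2, 3, 5} 6 (by decide) (N := num .F4 q) ?_
    rw [Finset.prod_insert (by decide), Finset.prod_insert (by decide),
      Finset.prod_insert (by decide), Finset.prod_singleton]
    show (q ^ 2 - 1) * (q ^ 6 - 1) * (q ^ 8 - 1) * (q ^ 12 - 1) ∣ _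
    rw [mul_assoc, mul_assoc]
  have h2 : q ^ 28 < 16 * num .F4 q := by
    have := Nat.mul_lt_mul'' (Nat.mul_lt_mul'' (Nat.mul_lt_mul'' (half hq (le_refl 2))
      (half hq (by norm_num : 2 ≤ 6))) (half hq (by norm_num : 2 ≤ 8)))
      (half hq (by norm_num : 2 ≤ 12))
    calc q ^ 28 = q ^ 2 * q ^ 6 * q ^ 8 * q ^ 12 := by ring
      _ < _ := this
      _ = 16 * num .F4 q := by show _ = 16 * ((q ^ 2 - 1) * (q ^ 6 - 1) * (q ^ 8 - 1) * (q ^ 12 - 1)); ring
  have h3 : 16 ≤ q ^ 4 := (by norm_num : 16 = 2 ^ 4) ▸ Nat.pow_le_pow_left hq 4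
  have h4 : P r M ^ 4 ≤ q ^ 48 := by
    calc P r M ^ 4 ≤ (q ^ (2 * 6)) ^ 4 := Nat.pow_le_pow_left (hle.trans h1) 4
      _ = q ^ 48 := by rw [← pow_mul]
  have h5 : 16 * q ^ 48 < 16 * M := by
    calc 16 * q ^ 48 ≤ q ^ 4 * q ^ 48 := Nat.mul_le_mul_right _ h3
      _ = q ^ 24 * q ^ 28 := by ring
      _ < q ^ 24 * (16 * num .F4 q) := Nat.mul_lt_mul_of_pos_left h2 (pow_pos (by omega) _)
      _ = 16 * M := by rw [heq]; ring
  omega

theorem dom4_E6 {p f M r : ℕ} (h : Real .E6 p f M) (hr : r.Prime) (hrp : r ≠ p) :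
    (P r M) ^ 4 < M := by
  have hq := two_le_q h
  have hrq : ¬ r ∣ p ^ f := not_dvd_q h.hp hr hrp
  have hn : num .E6 (p ^ f) ≠ 0 := num_ne_zero hq .E6 (by simp)
  have hle := P_M_le h hr hrp hn
  have heq : Nat.gcd 3 (p ^ f - 1) * M = (p ^ f) ^ 36 * num .E6 (p ^ f) := h.eq
  clear h
  generalize p ^ f = q at *
  have hd : Nat.gcd 3 (q - 1) ≤ 3 := Nat.gcd_le_left _ (by norm_num)
  have hd2 : q = 2 → Nat.gcd 3 (q - 1) = 1 := by rintro rfl; rfl
  by_cases h23 : q = 2 ∧ r = 3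
  · obtain ⟨rfl, rfl⟩ := h23
    have h1 : num .E6 2 = 3 ^ 6 * 4288554725 := by norm_num [num]
    have h2 : P 3 (num .E6 2) = 3 ^ 6 := by
      rw [h1, P_pow_self Nat.prime_three (by norm_num)]
    rw [h2] at hle
    rw [hd2 rfl, one_mul] at heq
    calc P 3 M ^ 4 ≤ (3 ^ 6) ^ 4 := Nat.pow_le_pow_left hle 4
      _ < 2 ^ 36 * (3 ^ 6 * 4288554725) := by norm_num
      _ = M := by rw [heq, h1]
  by_cases h32 : q = 3 ∧ r = 2
  · obtain ⟨rfl, rfl⟩ := h32
    have h1 : num .E6 3 = 2 ^ 17 * 737826267002825 := by norm_num [num]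
    have h2 : P 2 (num .E6 3) = 2 ^ 17 := by
      rw [h1, P_pow_self Nat.prime_two (by norm_num)]
    rw [h2] at hle
    have hd3 : Nat.gcd 3 (3 - 1) = 1 := by rfl
    rw [hd3, one_mul] at heq
    calc P 2 M ^ 4 ≤ (2 ^ 17) ^ 4 := Nat.pow_le_pow_left hle 4
      _ < 3 ^ 36 * (2 ^ 17 * 737826267002825) := by norm_num
      _ = M := by rw [heq, h1]
  have h1 : P r (num .E6 q) ≤ q ^ (2 * 9) := by
    refine sub_prod_le2 hr hq hrq h23 h32 {0, 4, 2, 3, 8, 5} 9 (by decide) (N := num .E6 q) ?_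
    rw [Finset.prod_insert (by decide), Finset.prod_insert (by decide),
      Finset.prod_insert (by decide), Finset.prod_insert (by decide),
      Finset.prod_insert (by decide), Finset.prod_singleton]
    show (q ^ 2 - 1) * (q ^ 5 - 1) * (q ^ 6 - 1) * (q ^ 8 - 1) * (q ^ 9 - 1) * (q ^ 12 - 1) ∣ _
    rw [mul_assoc, mul_assoc, mul_assoc, mul_assoc]
    exact mul_dvd_mul dvd_rfl (mul_dvd_mul (pow_sub_one_dvd (by decide)) (mul_dvd_mul dvd_rfl
      (mul_dvd_mul dvd_rfl (mul_dvd_mul (pow_sub_one_dvd (by decide)) dvd_rfl))))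
  have h2 : q ^ 42 < 64 * num .E6 q := by
    have := Nat.mul_lt_mul'' (Nat.mul_lt_mul'' (Nat.mul_lt_mul'' (Nat.mul_lt_mul''
      (Nat.mul_lt_mul'' (half hq (le_refl 2)) (half hq (by norm_num : 2 ≤ 5)))
      (half hq (by norm_num : 2 ≤ 6))) (half hq (by norm_num : 2 ≤ 8)))
      (half hq (by norm_num : 2 ≤ 9))) (half hq (by norm_num : 2 ≤ 12))
    calc q ^ 42 = q ^ 2 * q ^ 5 * q ^ 6 * q ^ 8 * q ^ 9 * q ^ 12 := by ring
      _ < _ := this
      _ = 64 * num .E6 q := by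
        show _ = 64 * ((q ^ 2 - 1) * (q ^ 5 - 1) * (q ^ 6 - 1) * (q ^ 8 - 1) * (q ^ 9 - 1) *
          (q ^ 12 - 1))
        ring
  have h3 : 64 * Nat.gcd 3 (q - 1) ≤ q ^ 6 := by
    rcases Nat.lt_or_ge q 3 with h3 | h3
    · have hq2 : q = 2 := by omega
      rw [hd2 hq2, hq2]; norm_num
    · have : 3 ^ 6 ≤ q ^ 6 := Nat.pow_le_pow_left h3 6
      omega
  have h4 : P r M ^ 4 ≤ q ^ 72 := by
    calc P r M ^ 4 ≤ (q ^ (2 * 9)) ^ 4 := Nat.pow_le_pow_left (hle.trans h1) 4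
      _ = q ^ 72 := by rw [← pow_mul]
  set d := Nat.gcd 3 (q - 1) with hdd
  have hdpos : 0 < d := Nat.gcd_pos_of_pos_left _ (by norm_num)
  have h5 : (64 * d) * q ^ 72 < (64 * d) * M := by
    calc (64 * d) * q ^ 72 ≤ q ^ 6 * q ^ 72 := Nat.mul_le_mul_right _ h3
      _ = q ^ 36 * q ^ 42 := by ring
      _ < q ^ 36 * (64 * num .E6 q) := Nat.mul_lt_mul_of_pos_left h2 (pow_pos (by omega) _)
      _ = 64 * (d * M) := by rw [heq]; ring
      _ = (64 * d) * M := by ring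
  have h6 : q ^ 72 < M := Nat.lt_of_mul_lt_mul_left h5
  omega

theorem dom4_E7 {p f M r : ℕ} (h : Real .E7 p f M) (hr : r.Prime) (hrp : r ≠ p) :
    (P r M) ^ 4 < M := by
  have hq := two_le_q h
  have hrq : ¬ r ∣ p ^ f := not_dvd_q h.hp hr hrp
  have hn : num .E7 (p ^ f) ≠ 0 := num_ne_zero hq .E7 (by simp)
  have hle := P_M_le h hr hrp hn
  have heq : Nat.gcd 2 (p ^ f - 1) * M = (p ^ f) ^ 63 * num .E7 (p ^ f) := h.eq
  clear h
  generalize p ^ f = q at *
  have hd : Nat.gcd 2 (q - 1) ≤ 2 := Nat.gcd_le_left _ (by norm_num)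
  have h1 : P r (num .E7 q) ≤ q ^ (3 * 9) := by
    refine sub_prod_le hr hq hrq {0, 2, 3, 4, 5, 6, 8} 9 (by decide) (N := num .E7 q) ?_
    rw [Finset.prod_insert (by decide), Finset.prod_insert (by decide),
      Finset.prod_insert (by decide), Finset.prod_insert (by decide),
      Finset.prod_insert (by decide), Finset.prod_insert (by decide), Finset.prod_singleton]
    show (q ^ 2 - 1) * (q ^ 6 - 1) * (q ^ 8 - 1) * (q ^ 10 - 1) * (q ^ 12 - 1) * (q ^ 14 - 1) *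
      (q ^ 18 - 1) ∣ _
    rw [mul_assoc, mul_assoc, mul_assoc, mul_assoc, mul_assoc]
  have h2 : q ^ 70 < 128 * num .E7 q := by
    have := Nat.mul_lt_mul'' (Nat.mul_lt_mul'' (Nat.mul_lt_mul'' (Nat.mul_lt_mul''
      (Nat.mul_lt_mul'' (Nat.mul_lt_mul'' (half hq (le_refl 2)) (half hq (by norm_num : 2 ≤ 6)))
      (half hq (by norm_num : 2 ≤ 8))) (half hq (by norm_num : 2 ≤ 10)))
      (half hq (by norm_num : 2 ≤ 12))) (half hq (by norm_num : 2 ≤ 14)))
      (half hq (by norm_num : 2 ≤ 18))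
    calc q ^ 70 = q ^ 2 * q ^ 6 * q ^ 8 * q ^ 10 * q ^ 12 * q ^ 14 * q ^ 18 := by ring
      _ < _ := this
      _ = 128 * num .E7 q := by
        show _ = 128 * ((q ^ 2 - 1) * (q ^ 6 - 1) * (q ^ 8 - 1) * (q ^ 10 - 1) * (q ^ 12 - 1) *
          (q ^ 14 - 1) * (q ^ 18 - 1))
        ring
  have h3 : 128 * Nat.gcd 2 (q - 1) ≤ q ^ 8 := by
    have : 2 ^ 8 ≤ q ^ 8 := Nat.pow_le_pow_left hq 8
    omega
  have h4 : P r M ^ 4 ≤ q ^ 108 := by
    calc P r M ^ 4 ≤ (q ^ (3 * 9)) ^ 4 := Nat.pow_le_pow_left (hle.trans h1) 4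
      _ = q ^ 108 := by rw [← pow_mul]
  set d := Nat.gcd 2 (q - 1) with hdd
  have h5 : (128 * d) * q ^ 108 < (128 * d) * M := by
    calc (128 * d) * q ^ 108 ≤ q ^ 8 * q ^ 108 := Nat.mul_le_mul_right _ h3
      _ = q ^ 116 := by rw [← pow_add]
      _ ≤ q ^ 133 := Nat.pow_le_pow_right (by omega) (by norm_num)
      _ = q ^ 63 * q ^ 70 := by rw [← pow_add]
      _ < q ^ 63 * (128 * num .E7 q) := Nat.mul_lt_mul_of_pos_left h2 (pow_pos (by omega) _)
      _ = 128 * (d * M) := by rw [heq]; ring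
      _ = (128 * d) * M := by ring
  have h6 : q ^ 108 < M := Nat.lt_of_mul_lt_mul_left h5
  omega

theorem dom4_E8 {p f M r : ℕ} (h : Real .E8 p f M) (hr : r.Prime) (hrp : r ≠ p) :
    (P r M) ^ 4 < M := by
  have hq := two_le_q h
  have hrq : ¬ r ∣ p ^ f := not_dvd_q h.hp hr hrp
  have hn : num .E8 (p ^ f) ≠ 0 := num_ne_zero hq .E8 (by simp)
  have hle := P_M_le h hr hrp hn
  have heq : M = (p ^ f) ^ 120 * num .E8 (p ^ f) := by
    have := h.eq
    change 1 * M = (p ^ f) ^ 120 * _ at this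
    rwa [one_mul] at this
  clear h
  generalize p ^ f = q at *
  have h1 : P r (num .E8 q) ≤ q ^ (3 * 15) := by
    refine sub_prod_le hr hq hrq {0, 3, 5, 6, 8, 9, 11, 14} 15 (by decide) (N := num .E8 q) ?_
    rw [Finset.prod_insert (by decide), Finset.prod_insert (by decide),
      Finset.prod_insert (by decide), Finset.prod_insert (by decide),
      Finset.prod_insert (by decide), Finset.prod_insert (by decide),
      Finset.prod_insert (by decide), Finset.prod_singleton]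
    show (q ^ 2 - 1) * (q ^ 8 - 1) * (q ^ 12 - 1) * (q ^ 14 - 1) * (q ^ 18 - 1) * (q ^ 20 - 1) *
      (q ^ 24 - 1) * (q ^ 30 - 1) ∣ _
    rw [mul_assoc, mul_assoc, mul_assoc, mul_assoc, mul_assoc, mul_assoc]
  have h2 : q ^ 128 < 256 * num .E8 q := by
    have := Nat.mul_lt_mul'' (Nat.mul_lt_mul'' (Nat.mul_lt_mul'' (Nat.mul_lt_mul''
      (Nat.mul_lt_mul'' (Nat.mul_lt_mul'' (Nat.mul_lt_mul'' (half hq (le_refl 2))
      (half hq (by norm_num : 2 ≤ 8)))
      (half hq (by norm_num : 2 ≤ 12))) (half hq (by norm_num : 2 ≤ 14)))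
      (half hq (by norm_num : 2 ≤ 18))) (half hq (by norm_num : 2 ≤ 20)))
      (half hq (by norm_num : 2 ≤ 24))) (half hq (by norm_num : 2 ≤ 30))
    calc q ^ 128 = q ^ 2 * q ^ 8 * q ^ 12 * q ^ 14 * q ^ 18 * q ^ 20 * q ^ 24 * q ^ 30 := by ring
      _ < _ := this
      _ = 256 * num .E8 q := by
        show _ = 256 * ((q ^ 2 - 1) * (q ^ 8 - 1) * (q ^ 12 - 1) * (q ^ 14 - 1) * (q ^ 18 - 1) *
          (q ^ 20 - 1) * (q ^ 24 - 1) * (q ^ 30 - 1))
        ring
  have h3 : 256 ≤ q ^ 8 := (by norm_num : 256 = 2 ^ 8) ▸ Nat.pow_le_pow_left hq 8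
  have h4 : P r M ^ 4 ≤ q ^ 180 := by
    calc P r M ^ 4 ≤ (q ^ (3 * 15)) ^ 4 := Nat.pow_le_pow_left (hle.trans h1) 4
      _ = q ^ 180 := by rw [← pow_mul]
  have h5 : 256 * q ^ 180 < 256 * M := by
    calc 256 * q ^ 180 ≤ q ^ 8 * q ^ 180 := Nat.mul_le_mul_right _ h3
      _ = q ^ 188 := by rw [← pow_add]
      _ ≤ q ^ 248 := Nat.pow_le_pow_right (by omega) (by norm_num)
      _ = q ^ 120 * q ^ 128 := by rw [← pow_add]
      _ < q ^ 120 * (256 * num .E8 q) := Nat.mul_lt_mul_of_pos_left h2 (pow_pos (by omega) _)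
      _ = 256 * M := by rw [heq]; ring
  omega

/-- the `r`-part of the order of `F₄(q), E₆(q), E₇(q), E₈(q)`, `r` not dividing `q`, is less than
the fourth root of the order -/
theorem dom4 {X : Sh} {p f M r : ℕ} (hX : X = .F4 ∨ X = .E6 ∨ X = .E7 ∨ X = .E8)
    (h : Real X p f M) (hr : r.Prime) (hrp : r ≠ p) : (P r M) ^ 4 < M := by
  rcases hX with rfl | rfl | rfl | rfl
  · exact dom4_F4 h hr hrp
  · exact dom4_E6 h hr hrp
  · exact dom4_E7 h hr hrp
  · exact dom4_E8 h hr hrp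

end Cfsg.Agent.H719.Dom4

private theorem dce_b7b6fe7e4c48 : _root_.True := by
  try have : _root_.True := by simp only [_root_.Cfsg.Agent.H902.Art.num.eq_10]
  try have : _root_.True := by simp only [_root_.Cfsg.Agent.H902.Art.num.eq_13]
  try have : _root_.True := by simp only [_root_.Cfsg.Agent.H902.Art.num.eq_11]
  try have : _root_.True := by simp only [_root_.Cfsg.Agent.H902.Art.num.eq_14]
  try have : _root_.True := by simp only [_root_.Cfsg.Agent.H902.Art.num.eq_6]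
  try have : _root_.True := by simp only [_root_.Cfsg.Agent.H902.Art.num.eq_1]
  try have : _root_.True := by simp only [_root_.Cfsg.Agent.H902.Art.num.eq_15]
  try have : _root_.True := by simp only [_root_.Cfsg.Agent.H902.Art.num.eq_2]
  try have : _root_.True := by simp only [_root_.Cfsg.Agent.H902.Art.num.eq_4]
  try have : _root_.True := by simp only [_root_.Cfsg.Agent.H902.Art.num.eq_8]
  try have : _root_.True := by simp only [_root_.Cfsg.Agent.H902.Art.num.eq_7]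
  try have : _root_.True := by simp only [_root_.Cfsg.Agent.H902.Art.num.eq_9]
  try have : _root_.True := by simp only [_root_.Cfsg.Agent.H902.Art.num.eq_5]
  try have : _root_.True := by simp only [_root_.Cfsg.Agent.H902.Art.num.eq_12]
  try have : _root_.True := by simp only [_root_.Cfsg.Agent.H902.Art.num.eq_3]
  exact _root_.True.intro
end

-- part: H66/Cod/SameB_mg
section
prune_inst 0x100000000000400000000000000000000000000004000000000000408000000004000004100008000008110000000200000000003000000200000000000000000200080000000001180c00000000000000000000000000000000000000000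
set_option linter.all false
open scoped Cfsg.Agent.FastGrp

-- part: H66/Cod/Same
section
/-!
# Codegrees of simple groups (helper66): the same characteristic

`same_num` : if the orders of two groups of Lie type in characteristic `p` have the same part prime to `p`, the first
being of type `L_n` (`n ≥ 4`), `F4`, `E6`, `E7`, `E8`, then they have the same shape and field, or are
`L₄(2)`, `L₃(4)`.
-/

set_option autoImplicit false
set_option linter.unusedSectionVars false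

namespace Cfsg.Agent.H66.Cod

open Cfsg Cfsg.Agent.H902 Cfsg.Agent.H902.Art Finset

variable {X Y : Sh} {p f g N M k : ℕ}

theorem exps (hX : Real X p f N) (hY : Real Y p g M) (hk : N = k * M) (hkp : k = P p k) :
    (p ^ f) ^ NN X = k * (p ^ g) ^ NN Y := by
  have hk0 : k ≠ 0 := by rintro rfl; rw [zero_mul] at hk; exact hX.M_ne hk
  rw [← hX.P_self, ← hY.P_self, hk, P_mul hk0 hY.M_ne, ← hkp]

theorem cross2 (hX : Real X p f N) (hY : Real Y p g M) (hk : N = k * M) (hkp : k = P p k) :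
    dd Y (p ^ g) * num X (p ^ f) = dd X (p ^ f) * num Y (p ^ g) := by
  have hk0 : k ≠ 0 := by rintro rfl; rw [zero_mul] at hk; exact hX.M_ne hk
  have h1 := exps hX hY hk hkp
  have h2 := hX.eq
  have h3 := hY.eq
  rw [h1, hk] at h2
  have h4 : dd X (p ^ f) * M = (p ^ g) ^ NN Y * num X (p ^ f) := by
    apply Nat.eq_of_mul_eq_mul_left (Nat.pos_of_ne_zero hk0)
    calc k * (dd X (p ^ f) * M) = dd X (p ^ f) * (k * M) := by ring
      _ = _ := h2
      _ = _ := by ring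
  have hq : 0 < (p ^ g) ^ NN Y := pow_pos (by have := hY.q_ge; omega) _
  apply Nat.eq_of_mul_eq_mul_left hq
  calc (p ^ g) ^ NN Y * (dd Y (p ^ g) * num X (p ^ f)) = dd Y (p ^ g) * ((p ^ g) ^ NN Y * num X (p ^ f)) := by ring
    _ = dd Y (p ^ g) * (dd X (p ^ f) * M) := by rw [h4]
    _ = dd X (p ^ f) * (dd Y (p ^ g) * M) := by ring
    _ = dd X (p ^ f) * ((p ^ g) ^ NN Y * num Y (p ^ g)) := by rw [h3]
    _ = _ := by ring

theorem exp_le (hX : Real X p f N) (hY : Real Y p g M) (hk : N = k * M) (hkp : k = P p k) :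
    g * NN Y ≤ f * NN X := by
  have hk0 : k ≠ 0 := by rintro rfl; rw [zero_mul] at hk; exact hX.M_ne hk
  have h1 := exps hX hY hk hkp
  rw [← pow_mul, ← pow_mul] at h1
  have h2 : p ^ (g * NN Y) ≤ p ^ (f * NN X) := by
    rw [h1]
    exact Nat.le_mul_of_pos_left _ (Nat.pos_of_ne_zero hk0)
  exact (Nat.pow_le_pow_iff_right hX.hp.one_lt).1 h2

/-- `DM_le` with two orders -/
theorem DM_le2 (hX : Real X p f N) (hY : Real Y p g M) (hd : ∀ r : ℕ, r.Prime → r ≠ p → r ∣ N → r ∣ M)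
    (h3 : 3 ≤ f * DM X) (h6 : ¬ (p = 2 ∧ f * DM X = 6)) : f * DM X ≤ g * DM Y := by
  obtain ⟨r, hr, ho⟩ := Lib.Zsigmondy.exists_prime_orderOf hX.hp.two_le (show 2 ≤ f * DM X by omega) (fun h => by omega) h6
  have hrp : r ≠ p := ne_of_order hr (show 1 ≤ f * DM X by omega) ho
  have hd := hd r hr hrp (hX.dvd_of_order_DM hr ho h3)
  have hg := hY.hf
  have hge := DM_ge hY
  have hlt := BM_lt hY
  rcases hY.order_cases hr hrp hd with h | ⟨e, he, heB, h⟩
  · rw [ho] at h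
    exact Nat.le_of_dvd (Nat.mul_pos hg (by omega)) h
  · rw [ho] at h
    exact (Nat.le_of_dvd (Nat.mul_pos hg he) h).trans (Nat.mul_le_mul_left _ (by omega))

/-- `BM_le` with two orders -/
theorem BM_le2 (hX : Real X p f N) (hY : Real Y p g M) (hd : ∀ r : ℕ, r.Prime → r ≠ p → r ∣ N → r ∣ M)
    (hB : DM X < 2 * BM X) (hDD : f * DM X = g * DM Y)
    (h3 : 3 ≤ f * BM X) (h6 : ¬ (p = 2 ∧ f * BM X = 6)) : f * BM X ≤ g * BM Y := by
  obtain ⟨r, hr, ho⟩ := Lib.Zsigmondy.exists_prime_orderOf hX.hp.two_le (show 2 ≤ f * BM X by omega) (fun h => by omega) h6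
  have hrp : r ≠ p := ne_of_order hr (show 1 ≤ f * BM X by omega) ho
  have hd := hd r hr hrp (hX.dvd_of_order_BM hr hB ho h3)
  have hf := hX.hf
  have hg := hY.hf
  have hlt := BM_lt hX
  rcases hY.order_cases hr hrp hd with h | ⟨e, he, heB, h⟩
  · exfalso
    rw [ho, ← hDD] at h
    obtain ⟨c, hc⟩ := Nat.dvd_of_mul_dvd_mul_left hf h
    have hc2 : c < 2 := by
      by_contra hcon
      have : BM X * 2 ≤ BM X * c := Nat.mul_le_mul_left _ (by omega)
      omega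
    have hc0 : c ≠ 0 := by rintro rfl; omega
    have hc1 : c = 1 := by omega
    rw [hc1] at hc
    omega
  · rw [ho] at h
    exact (Nat.le_of_dvd (Nat.mul_pos hg he) h).trans (Nat.mul_le_mul_left _ heB)

/-! ### arithmetic -/

/-- the equation of the two orders without the `p`-parts -/
def Eqn (X Y : Sh) (q q' : ℕ) : Prop := dd Y q' * num X q = dd X q * num Y q'

theorem Eqn.symm {q q' : ℕ} (h : Eqn X Y q q') : Eqn Y X q' q := by
  unfold Eqn at h ⊢
  exact h.symm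

section arith

variable {t : ℕ}

theorem lo {t : ℕ} (ht : 2 ≤ t) (k : ℕ) : t ^ k ≤ t ^ (k + 1) - 1 := by
  have h1 : t ^ (k + 1) = t ^ k * t := pow_succ t k
  have h2 : 1 ≤ t ^ k := Nat.one_le_pow _ _ (by omega)
  have h3 : t ^ k * 2 ≤ t ^ k * t := Nat.mul_le_mul_left _ ht
  omega

theorem hi {t : ℕ} (k : ℕ) : t ^ k - 1 ≤ t ^ k := Nat.sub_le _ _

theorem hp1 {t : ℕ} (ht : 2 ≤ t) (k : ℕ) : t ^ k + 1 ≤ t ^ (k + 1) := by
  have h1 : t ^ (k + 1) = t ^ k * t := pow_succ t k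
  have h2 : 1 ≤ t ^ k := Nat.one_le_pow _ _ (by omega)
  have h3 : t ^ k * 2 ≤ t ^ k * t := Nat.mul_le_mul_left _ ht
  omega

theorem split2 {t k : ℕ} (ht : 2 ≤ t) : t ^ (2 * k) - 1 = (t ^ k - 1) * (t ^ k + 1) := by
  rw [two_mul, pow_add]
  obtain ⟨s, hs⟩ := Nat.exists_eq_add_of_le' (Nat.one_le_pow k t (by omega))
  rw [hs, Nat.add_sub_cancel]
  have : (s + 1) * (s + 1) = s * (s + 1 + 1) + 1 := by ring
  rw [this, Nat.add_sub_cancel]

theorem up (t k : ℕ) : t ^ k - 1 ≤ t ^ k := Nat.sub_le _ _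

/-! lower bounds -/

theorem F4_low (ht : 2 ≤ t) : t ^ 24 ≤ num .F4 t := by
  show _ ≤ (t ^ 2 - 1) * (t ^ 6 - 1) * (t ^ 8 - 1) * (t ^ 12 - 1)
  calc t ^ 24 = t ^ 1 * t ^ 5 * t ^ 7 * t ^ 11 := by ring
    _ ≤ _ := Nat.mul_le_mul (Nat.mul_le_mul (Nat.mul_le_mul (lo ht 1) (lo ht 5)) (lo ht 7)) (lo ht 11)

theorem E6_low (ht : 2 ≤ t) : t ^ 36 ≤ num .E6 t := by
  show _ ≤ (t ^ 2 - 1) * (t ^ 5 - 1) * (t ^ 6 - 1) * (t ^ 8 - 1) * (t ^ 9 - 1) * (t ^ 12 - 1)
  calc t ^ 36 = t ^ 1 * t ^ 4 * t ^ 5 * t ^ 7 * t ^ 8 * t ^ 11 := by ring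
    _ ≤ _ := Nat.mul_le_mul (Nat.mul_le_mul (Nat.mul_le_mul (Nat.mul_le_mul (Nat.mul_le_mul (lo ht 1) (lo ht 4))
      (lo ht 5)) (lo ht 7)) (lo ht 8)) (lo ht 11)

theorem E6_low2 (ht : 2 ≤ t) : t ^ 78 ≤ num .E6 (t ^ 2) := by
  show _ ≤ ((t ^ 2) ^ 2 - 1) * ((t ^ 2) ^ 5 - 1) * ((t ^ 2) ^ 6 - 1) * ((t ^ 2) ^ 8 - 1) * ((t ^ 2) ^ 9 - 1) *
    ((t ^ 2) ^ 12 - 1)
  simp only [← pow_mul]
  calc t ^ 78 = t ^ 3 * t ^ 9 * t ^ 11 * t ^ 15 * t ^ 17 * t ^ 23 := by ring
    _ ≤ _ := Nat.mul_le_mul (Nat.mul_le_mul (Nat.mul_le_mul (Nat.mul_le_mul (Nat.mul_le_mul (lo ht 3) (lo ht 9))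
      (lo ht 11)) (lo ht 15)) (lo ht 17)) (lo ht 23)

theorem E7_low (ht : 2 ≤ t) : t ^ 63 ≤ num .E7 t := by
  show _ ≤ (t ^ 2 - 1) * (t ^ 6 - 1) * (t ^ 8 - 1) * (t ^ 10 - 1) * (t ^ 12 - 1) * (t ^ 14 - 1) * (t ^ 18 - 1)
  calc t ^ 63 = t ^ 1 * t ^ 5 * t ^ 7 * t ^ 9 * t ^ 11 * t ^ 13 * t ^ 17 := by ring
    _ ≤ _ := Nat.mul_le_mul (Nat.mul_le_mul (Nat.mul_le_mul (Nat.mul_le_mul (Nat.mul_le_mul (Nat.mul_le_mul
      (lo ht 1) (lo ht 5)) (lo ht 7)) (lo ht 9)) (lo ht 11)) (lo ht 13)) (lo ht 17)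

theorem E8_low (ht : 2 ≤ t) : t ^ 120 ≤ num .E8 t := by
  show _ ≤ (t ^ 2 - 1) * (t ^ 8 - 1) * (t ^ 12 - 1) * (t ^ 14 - 1) * (t ^ 18 - 1) * (t ^ 20 - 1) * (t ^ 24 - 1) *
      (t ^ 30 - 1)
  calc t ^ 120 = t ^ 1 * t ^ 7 * t ^ 11 * t ^ 13 * t ^ 17 * t ^ 19 * t ^ 23 * t ^ 29 := by ring
    _ ≤ _ := Nat.mul_le_mul (Nat.mul_le_mul (Nat.mul_le_mul (Nat.mul_le_mul (Nat.mul_le_mul (Nat.mul_le_mul
      (Nat.mul_le_mul (lo ht 1) (lo ht 7)) (lo ht 11)) (lo ht 13)) (lo ht 17)) (lo ht 19)) (lo ht 23)) (lo ht 29)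

/-! upper bounds -/

theorem L3_up : num (.L 3) t ≤ t ^ 5 := by
  show ∏ i ∈ range 2, (t ^ (i + 2) - 1) ≤ _
  rw [prod_range_succ, prod_range_succ, prod_range_zero, one_mul]
  calc _ ≤ t ^ 2 * t ^ 3 := Nat.mul_le_mul (up t 2) (up t 3)
    _ = _ := by ring

theorem L4_up : num (.L 4) t ≤ t ^ 9 := by
  show ∏ i ∈ range 3, (t ^ (i + 2) - 1) ≤ _
  rw [prod_range_succ, prod_range_succ, prod_range_succ, prod_range_zero, one_mul]
  calc _ ≤ t ^ 2 * t ^ 3 * t ^ 4 := Nat.mul_le_mul (Nat.mul_le_mul (up t 2) (up t 3)) (up t 4)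
    _ = _ := by ring

theorem L5_up : num (.L 5) t ≤ t ^ 14 := by
  show ∏ i ∈ range 4, (t ^ (i + 2) - 1) ≤ _
  rw [prod_range_succ, prod_range_succ, prod_range_succ, prod_range_succ, prod_range_zero, one_mul]
  calc _ ≤ t ^ 2 * t ^ 3 * t ^ 4 * t ^ 5 :=
        Nat.mul_le_mul (Nat.mul_le_mul (Nat.mul_le_mul (up t 2) (up t 3)) (up t 4)) (up t 5)
    _ = _ := by ring

theorem Cprod_up (m : ℕ) : ∏ i ∈ range m, (t ^ (2 * (i + 1)) - 1) ≤ t ^ (m * (m + 1)) := by
  induction m with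
  | zero => simp
  | succ m ih =>
    rw [prod_range_succ]
    calc _ ≤ t ^ (m * (m + 1)) * t ^ (2 * (m + 1)) := Nat.mul_le_mul ih (up t _)
      _ = _ := by rw [← pow_add]; congr 1; ring

theorem C_up (m : ℕ) : num (.C m) t ≤ t ^ (m * (m + 1)) := Cprod_up m

theorem D_up (m : ℕ) : num (.D (m + 1)) t ≤ t ^ (m + 1) * t ^ (m * (m + 1)) :=
  Nat.mul_le_mul (up t _) (Cprod_up m)

theorem DD_up (ht : 2 ≤ t) (m : ℕ) : num (.DD (m + 1)) t ≤ t ^ (m + 2) * t ^ (m * (m + 1)) :=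
  Nat.mul_le_mul (hp1 ht _) (Cprod_up m)

theorem U_up (ht : 2 ≤ t) (n : ℕ) : ∏ i ∈ range n, (if Even i then t ^ (i + 2) - 1 else t ^ (i + 2) + 1) ≤
    t ^ (n * (n + 3) / 2 + n / 2) := by
  induction n with
  | zero => simp only [_root_.Finset.range_zero, _root_.Finset.prod_empty, _root_.zero_add, _root_.MulZeroClass.zero_mul, _root_.Nat.zero_div, _root_.add_zero, _root_.pow_zero, _root_.Std.le_refl]
  | succ n ih =>
    rw [prod_range_succ]
    have h1 : (if Even n then t ^ (n + 2) - 1 else t ^ (n + 2) + 1) ≤ t ^ (n + 2 + n % 2) := by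
      rcases Nat.even_or_odd n with h | h
      · rw [if_pos h, Nat.even_iff.1 h]
        exact up t _
      · rw [if_neg (Nat.not_even_iff_odd.2 h), Nat.odd_iff.1 h]
        exact hp1 ht _
    calc _ ≤ t ^ (n * (n + 3) / 2 + n / 2) * t ^ (n + 2 + n % 2) := Nat.mul_le_mul ih h1
      _ = _ := by
        rw [← pow_add]
        congr 1
        have h2 : (n + 1) * (n + 1 + 3) = n * (n + 3) + 2 * (n + 2) := by ring
        rw [h2]
        (clear * -; omega)

end arith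

theorem dd_pos {X : Sh} {p f M : ℕ} (h : Real X p f M) : 1 ≤ dd X (p ^ f) := Nat.pos_of_ne_zero h.dd_ne

theorem fin_of {a b A B x y : ℕ} (h : a * A = b * B) (ha : 1 ≤ a) (hA : x ≤ A) (hB : B ≤ y) (hxy : b * y < x) :
    False := by
  have h1 : A ≤ b * B := by rw [← h]; exact Nat.le_mul_of_pos_left _ ha
  have h2 : b * B ≤ b * y := Nat.mul_le_mul_left _ hB
  omega

theorem pow_lt' {t a b c : ℕ} (ht : 2 ≤ t) (hc : c < 2 ^ (a - b)) (hab : b ≤ a) : c * t ^ b < t ^ a := by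
  have h1 : t ^ a = t ^ (a - b) * t ^ b := by rw [← pow_add]; congr 1; omega
  rw [h1]
  have h2 : 2 ^ (a - b) ≤ t ^ (a - b) := Nat.pow_le_pow_left ht _
  exact Nat.mul_lt_mul_of_pos_right (by omega) (pow_pos (by omega) _)

end Cfsg.Agent.H66.Cod
end

-- part: H66/Cod/SameB
section
/-!
# Codegrees of simple groups (helper66): the same characteristic, II
-/

set_option autoImplicit false
set_option linter.unusedSectionVars false

namespace Cfsg.Agent.H66.Cod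

open Cfsg Cfsg.Agent.H902 Cfsg.Agent.H902.Art Finset

variable {X Y : Sh} {p f g N M k : ℕ}

/-- decidable version of `Tgt` -/
def tgtB : Sh → Bool
  | .L n => Nat.ble 4 n
  | .F4 => true
  | .E6 => true
  | .E7 => true
  | .E8 => true
  | _ => false

theorem tgtB_of {X : Sh} (h : Tgt X) : tgtB X = true := by
  rcases h with ⟨n, hn, rfl⟩ | rfl | rfl | rfl | rfl
  · show Nat.ble 4 n = true
    rw [Nat.ble_eq]
    exact hn
  all_goals rfl

/-- the finite check in characteristic two -/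
theorem fin_two2 : ∀ v ∈ List.range' 1 21, ∀ a ∈ (ents 2 v).filter (fun a => tgtB a.1), ∀ w ∈ List.range' 1 21,
    ∀ b ∈ ents 2 w, w ≤ v → _root_.Cfsg.Agent.H902.Art.val 2 a = 2 ^ (v - w) * _root_.Cfsg.Agent.H902.Art.val 2 b → a = b ∨ (_root_.Cfsg.Agent.H902.Art.val 2 a = 20160 ∧ _root_.Cfsg.Agent.H902.Art.val 2 b = 20160) := by
  rw [Cfsg.Agent.H902.EntsFast.ents_eq, Cfsg.Agent.H902.EntsFast.val_eqF]
  decide +kernel

theorem Tgt.big (h : Tgt X) : DM X < 2 * BM X ∧ 4 ≤ DM X ∧ 3 ≤ BM X := by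
  rcases h with ⟨n, hn, rfl⟩ | rfl | rfl | rfl | rfl
  · exact ⟨show n < 2 * (n - 1) by omega, hn, show 3 ≤ n - 1 by omega⟩
  all_goals decide

/-- the families: `L_n(t²)` against `C_n(t)`, `D_{n+1}(t)`, `²D_n(t)` -/
theorem ser_LC {n t : ℕ} (hn : 4 ≤ n) (ht : 2 ≤ t) (h : Eqn (.L n) (.C n) (t ^ 2) t)
    (hd : 1 ≤ dd (.L n) (t ^ 2)) : False := by
  unfold Eqn at h
  have h1 : num (.C n) t = num (.L n) (t ^ 2) * (t ^ 2 - 1) := by
    obtain ⟨k, rfl⟩ := Nat.exists_eq_add_of_le' (show 1 ≤ n by omega)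
    show ∏ i ∈ range (k + 1), (t ^ (2 * (i + 1)) - 1) = (∏ i ∈ range k, ((t ^ 2) ^ (i + 2) - 1)) * (t ^ 2 - 1)
    rw [Finset.prod_range_succ']
    congr 1
    apply Finset.prod_congr rfl
    intro i _
    rw [← pow_mul t 2 (i + 2)]
  have h0 : 0 < num (.L n) (t ^ 2) := Nat.pos_of_ne_zero (Finset.prod_ne_zero_iff.2 fun i _ =>
    sub_one_ne (by nlinarith only [ht]) (by omega))
  rw [h1] at h
  have h2 : dd (.C n) t = dd (.L n) (t ^ 2) * (t ^ 2 - 1) := by
    apply Nat.eq_of_mul_eq_mul_right h0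
    rw [h]; ring
  have h3 : dd (.C n) t ≤ 2 := Nat.gcd_le_left _ (by norm_num)
  have h4 : 4 ≤ t ^ 2 := by nlinarith only [ht]
  have h5 : 1 * (t ^ 2 - 1) ≤ dd (.L n) (t ^ 2) * (t ^ 2 - 1) := Nat.mul_le_mul_right _ hd
  omega

theorem ser_LD {n t : ℕ} (hn : 4 ≤ n) (ht : 2 ≤ t) (h : Eqn (.L n) (.D (n + 1)) (t ^ 2) t)
    (hd : 1 ≤ dd (.L n) (t ^ 2)) : False := by
  unfold Eqn at h
  have h1 : num (.D (n + 1)) t = (t ^ (n + 1) - 1) * (num (.L n) (t ^ 2) * (t ^ 2 - 1)) := by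
    obtain ⟨k, rfl⟩ := Nat.exists_eq_add_of_le' (show 1 ≤ n by omega)
    show (t ^ (k + 1 + 1) - 1) * ∏ i ∈ range (k + 1), (t ^ (2 * (i + 1)) - 1) =
      _ * ((∏ i ∈ range k, ((t ^ 2) ^ (i + 2) - 1)) * (t ^ 2 - 1))
    congr 1
    rw [Finset.prod_range_succ']
    congr 1
    apply Finset.prod_congr rfl
    intro i _
    rw [← pow_mul t 2 (i + 2)]
  have h0 : 0 < num (.L n) (t ^ 2) := Nat.pos_of_ne_zero (Finset.prod_ne_zero_iff.2 fun i _ =>
    sub_one_ne (by nlinarith only [ht]) (by omega))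
  rw [h1] at h
  have h2 : dd (.D (n + 1)) t = dd (.L n) (t ^ 2) * ((t ^ (n + 1) - 1) * (t ^ 2 - 1)) := by
    apply Nat.eq_of_mul_eq_mul_right h0
    rw [h]; ring
  have h3 : dd (.D (n + 1)) t ≤ 4 := Nat.gcd_le_left _ (by norm_num)
  have h4 : 4 ≤ t ^ 2 := by nlinarith only [ht]
  have h5 : t ^ 2 ≤ t ^ (n + 1) := Nat.pow_le_pow_right (by omega) (by omega)
  have h6 : 1 * ((t ^ (n + 1) - 1) * (t ^ 2 - 1)) ≤ dd (.L n) (t ^ 2) * ((t ^ (n + 1) - 1) * (t ^ 2 - 1)) :=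
    Nat.mul_le_mul_right _ hd
  have h7 : 3 * 3 ≤ (t ^ (n + 1) - 1) * (t ^ 2 - 1) := Nat.mul_le_mul (by omega) (by omega)
  omega

theorem ser_LDD {n t : ℕ} (hn : 4 ≤ n) (ht : 2 ≤ t) (h : Eqn (.L n) (.DD n) (t ^ 2) t)
    (hd : 1 ≤ dd (.DD n) t) : False := by
  unfold Eqn at h
  set A := ∏ i ∈ range (n - 1), (t ^ (2 * (i + 1)) - 1) with hA
  have hA0 : 0 < A := Nat.pos_of_ne_zero (Finset.prod_ne_zero_iff.2 fun i _ => sub_one_ne ht (by omega))
  have h2 : num (.L n) (t ^ 2) * (t ^ 2 - 1) = A * (t ^ (2 * n) - 1) := by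
    have h3 : ∏ i ∈ range n, (t ^ (2 * (i + 1)) - 1) = num (.L n) (t ^ 2) * (t ^ 2 - 1) := by
      obtain ⟨k, rfl⟩ := Nat.exists_eq_add_of_le' (show 1 ≤ n by omega)
      rw [Finset.prod_range_succ']
      show _ = (∏ i ∈ range k, ((t ^ 2) ^ (i + 2) - 1)) * (t ^ 2 - 1)
      congr 1
      apply Finset.prod_congr rfl
      intro i _
      rw [← pow_mul t 2 (i + 2)]
    have h4 : ∏ i ∈ range n, (t ^ (2 * (i + 1)) - 1) = A * (t ^ (2 * n) - 1) := by
      obtain ⟨k, rfl⟩ := Nat.exists_eq_add_of_le' (show 1 ≤ n by omega)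
      rw [Finset.prod_range_succ, hA]
      rfl
    rw [← h3, h4]
  have h5 : num (.DD n) t = (t ^ n + 1) * A := rfl
  have h6 := split2 (k := n) ht
  have h7 : dd (.DD n) t * (t ^ n - 1) = dd (.L n) (t ^ 2) * (t ^ 2 - 1) := by
    apply Nat.eq_of_mul_eq_mul_right (show 0 < (t ^ n + 1) * A from Nat.mul_pos (by omega) hA0)
    calc dd (.DD n) t * (t ^ n - 1) * ((t ^ n + 1) * A) = dd (.DD n) t * (A * ((t ^ n - 1) * (t ^ n + 1))) := by ring
      _ = dd (.DD n) t * (A * (t ^ (2 * n) - 1)) := by rw [h6]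
      _ = dd (.DD n) t * num (.L n) (t ^ 2) * (t ^ 2 - 1) := by rw [← h2]; ring
      _ = dd (.L n) (t ^ 2) * num (.DD n) t * (t ^ 2 - 1) := by rw [h]
      _ = dd (.L n) (t ^ 2) * (t ^ 2 - 1) * ((t ^ n + 1) * A) := by rw [h5]; ring
  have h8 : dd (.L n) (t ^ 2) ≤ n := Nat.gcd_le_left _ (by omega)
  have h9 : n ≤ 2 ^ (n - 2) := le_two_pow_sub hn
  have h10 : t ^ n = t ^ 2 * t ^ (n - 2) := by rw [← pow_add]; congr 1; omega
  have h11 : n ≤ t ^ (n - 2) := h9.trans (Nat.pow_le_pow_left ht _)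
  have h12 : 1 * (t ^ n - 1) ≤ dd (.DD n) t * (t ^ n - 1) := Nat.mul_le_mul_right _ hd
  have h13 : dd (.L n) (t ^ 2) * (t ^ 2 - 1) ≤ t ^ (n - 2) * (t ^ 2 - 1) := Nat.mul_le_mul_right _ (h8.trans h11)
  have h14 : t ^ (n - 2) * (t ^ 2 - 1) + t ^ (n - 2) = t ^ n := by
    rw [h10]
    obtain ⟨s, hs⟩ := Nat.exists_eq_add_of_le' (Nat.one_le_pow 2 t (by omega))
    rw [hs, Nat.add_sub_cancel]; ring
  omega

/-- the sporadic pairs of shapes -/
theorem F4_L3 {t : ℕ} (ht : 2 ≤ t) (h : Eqn .F4 (.L 3) t (t ^ 4)) (hd : 1 ≤ dd (.L 3) (t ^ 4)) : False := by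
  refine fin_of h hd (F4_low ht) (y := t ^ 20) ((L3_up (t := t ^ 4)).trans (by rw [← pow_mul])) ?_
  show 1 * t ^ 20 < t ^ 24
  exact pow_lt' ht (by norm_num) (by norm_num)

theorem F4_C3 {t : ℕ} (ht : 2 ≤ t) (h : Eqn .F4 (.C 3) t (t ^ 2)) (hd : 1 ≤ dd (.C 3) (t ^ 2)) : False := by
  have h1 : num (.C 3) (t ^ 2) ≤ t ^ 4 * t ^ 8 * (t ^ 12 - 1) := by
    show ∏ i ∈ range 3, ((t ^ 2) ^ (2 * (i + 1)) - 1) ≤ _
    rw [prod_range_succ, prod_range_succ, prod_range_succ, prod_range_zero, one_mul]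
    simp only [← pow_mul]
    exact Nat.mul_le_mul (Nat.mul_le_mul (up t 4) (up t 8)) le_rfl
  refine fin_of h hd (F4_low ht) h1 ?_
  show 1 * (t ^ 4 * t ^ 8 * (t ^ 12 - 1)) < t ^ 24
  have h2 : 0 < t ^ 12 := pow_pos (by omega) _
  have h3 : t ^ 24 = t ^ 4 * t ^ 8 * t ^ 12 := by ring
  rw [one_mul, h3]
  exact Nat.mul_lt_mul_of_pos_left (by omega) (by positivity)

theorem F4_U4 {t : ℕ} (ht : 2 ≤ t) (h : Eqn .F4 (.U 4) t (t ^ 2)) (hd : 1 ≤ dd (.U 4) (t ^ 2)) : False := by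
  have ht2 : 2 ≤ t ^ 2 := by nlinarith
  refine fin_of h hd (F4_low ht) (y := t ^ 20) ((U_up ht2 3).trans (by rw [← pow_mul])) ?_
  show 1 * t ^ 20 < t ^ 24
  exact pow_lt' ht (by norm_num) (by norm_num)

theorem F4_D4 {t : ℕ} (ht : 2 ≤ t) (h : Eqn .F4 (.D 4) t (t ^ 2)) : False := by
  have h1 : Eqn (.D 4) .F4 (t ^ 2) t := h.symm
  unfold Eqn at h1
  have h2 : dd .F4 t = 1 := rfl
  rw [h2, one_mul] at h1
  have h3 : num (.D 4) (t ^ 2) =
      ((t ^ 2) ^ 4 - 1) * (((t ^ 2) ^ 2 - 1) * ((t ^ 2) ^ 4 - 1) * ((t ^ 2) ^ 6 - 1)) := by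
    show ((t ^ 2) ^ 4 - 1) * ∏ i ∈ range 3, ((t ^ 2) ^ (2 * (i + 1)) - 1) = _
    rw [prod_range_succ, prod_range_succ, prod_range_succ, prod_range_zero, one_mul]
  rw [h3] at h1
  exact ar_D4F4 ht (gcd4_le _) h1

theorem F4_TE6 {t : ℕ} (ht : 2 ≤ t) (h : Eqn .F4 .TE6 (t ^ 3) (t ^ 2)) : False := by
  unfold Eqn at h
  have h1 : dd .TE6 (t ^ 2) = 1 := by
    show Nat.gcd 3 (t ^ 2 + 1) = 1
    rcases gcd3 (t ^ 2 + 1) with h2 | h2
    · exact h2
    · exfalso
      have h3 : 3 ∣ t ^ 2 + 1 := h2 ▸ Nat.gcd_dvd_right 3 _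
      have h4 : t % 3 = 0 ∨ t % 3 = 1 ∨ t % 3 = 2 := by omega
      have h5 : (t ^ 2 + 1) % 3 = 0 := Nat.mod_eq_zero_of_dvd h3
      rw [Nat.add_mod, Nat.pow_mod] at h5
      rcases h4 with h4 | h4 | h4 <;> rw [h4] at h5 <;> norm_num at h5
  have h2 : dd .F4 (t ^ 3) = 1 := rfl
  rw [h1, h2, one_mul, one_mul] at h
  exact ar_F4TE6 ht h

theorem E6_L4 {t : ℕ} (ht : 2 ≤ t) (h : Eqn .E6 (.L 4) t (t ^ 3)) (hd : 1 ≤ dd (.L 4) (t ^ 3)) : False := by
  refine fin_of h hd (E6_low ht) (y := t ^ 27) ((L4_up (t := t ^ 3)).trans (by rw [← pow_mul])) ?_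
  have h1 : dd .E6 t ≤ 3 := Nat.gcd_le_left _ (by norm_num)
  exact (Nat.mul_le_mul_right _ h1).trans_lt (pow_lt' ht (by norm_num) (by norm_num))

theorem E6_C4 {t : ℕ} (ht : 2 ≤ t) (h : Eqn .E6 (.C 4) (t ^ 2) (t ^ 3)) (hd : 1 ≤ dd (.C 4) (t ^ 3)) : False := by
  refine fin_of h hd (E6_low2 ht) (y := t ^ 60) ((C_up (t := t ^ 3) 4).trans (by rw [← pow_mul])) ?_
  have h1 : dd .E6 (t ^ 2) ≤ 3 := Nat.gcd_le_left _ (by norm_num)
  exact (Nat.mul_le_mul_right _ h1).trans_lt (pow_lt' ht (by norm_num) (by norm_num))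

theorem E6_DD4 {t : ℕ} (ht : 2 ≤ t) (h : Eqn .E6 (.DD 4) (t ^ 2) (t ^ 3)) (hd : 1 ≤ dd (.DD 4) (t ^ 3)) : False := by
  have ht3 : 2 ≤ t ^ 3 := ht.trans (Nat.le_self_pow (by norm_num) t)
  refine fin_of h hd (E6_low2 ht) (y := t ^ 51) ((DD_up ht3 3).trans (by rw [← pow_mul, ← pow_mul, ← pow_add])) ?_
  have h1 : dd .E6 (t ^ 2) ≤ 3 := Nat.gcd_le_left _ (by norm_num)
  exact (Nat.mul_le_mul_right _ h1).trans_lt (pow_lt' ht (by norm_num) (by norm_num))

theorem E6_D5 {t : ℕ} (ht : 2 ≤ t) (h : Eqn .E6 (.D 5) (t ^ 2) (t ^ 3)) (hd : 1 ≤ dd (.D 5) (t ^ 3)) : False := by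
  refine fin_of h hd (E6_low2 ht) (y := t ^ 75) ((D_up (t := t ^ 3) 4).trans (by rw [← pow_mul, ← pow_mul, ← pow_add])) ?_
  have h1 : dd .E6 (t ^ 2) ≤ 3 := Nat.gcd_le_left _ (by norm_num)
  exact (Nat.mul_le_mul_right _ h1).trans_lt (pow_lt' ht (by norm_num) (by norm_num))

theorem E7_U9 {t : ℕ} (ht : 2 ≤ t) (h : Eqn .E7 (.U 9) t t) (hd : 1 ≤ dd (.U 9) t) : False := by
  refine fin_of h hd (E7_low ht) (y := t ^ 48) (U_up ht 8) ?_
  have h1 : dd .E7 t ≤ 2 := Nat.gcd_le_left _ (by norm_num)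
  exact (Nat.mul_le_mul_right _ h1).trans_lt (pow_lt' ht (by norm_num) (by norm_num))

theorem E7_U10 {t : ℕ} (ht : 2 ≤ t) (h : Eqn .E7 (.U 10) t t) (hd : 1 ≤ dd (.U 10) t) : False := by
  refine fin_of h hd (E7_low ht) (y := t ^ 58) (U_up ht 9) ?_
  have h1 : dd .E7 t ≤ 2 := Nat.gcd_le_left _ (by norm_num)
  exact (Nat.mul_le_mul_right _ h1).trans_lt (pow_lt' ht (by norm_num) (by norm_num))

theorem E8_L5 {t : ℕ} (ht : 2 ≤ t) (h : Eqn .E8 (.L 5) t (t ^ 6)) (hd : 1 ≤ dd (.L 5) (t ^ 6)) : False := by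
  refine fin_of h hd (E8_low ht) (y := t ^ 84) ((L5_up (t := t ^ 6)).trans (by rw [← pow_mul])) ?_
  show 1 * t ^ 84 < t ^ 120
  exact pow_lt' ht (by norm_num) (by norm_num)

theorem E8_C5 {t : ℕ} (ht : 2 ≤ t) (h : Eqn .E8 (.C 5) t (t ^ 3)) (hd : 1 ≤ dd (.C 5) (t ^ 3)) : False := by
  refine fin_of h hd (E8_low ht) (y := t ^ 90) ((C_up (t := t ^ 3) 5).trans (by rw [← pow_mul])) ?_
  show 1 * t ^ 90 < t ^ 120
  exact pow_lt' ht (by norm_num) (by norm_num)

theorem E8_DD5 {t : ℕ} (ht : 2 ≤ t) (h : Eqn .E8 (.DD 5) t (t ^ 3)) (hd : 1 ≤ dd (.DD 5) (t ^ 3)) : False := by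
  have ht3 : 2 ≤ t ^ 3 := ht.trans (Nat.le_self_pow (by norm_num) t)
  refine fin_of h hd (E8_low ht) (y := t ^ 78) ((DD_up ht3 4).trans (by rw [← pow_mul, ← pow_mul, ← pow_add])) ?_
  show 1 * t ^ 78 < t ^ 120
  exact pow_lt' ht (by norm_num) (by norm_num)

theorem E8_D6 {t : ℕ} (ht : 2 ≤ t) (h : Eqn .E8 (.D 6) t (t ^ 3)) (hd : 1 ≤ dd (.D 6) (t ^ 3)) : False := by
  refine fin_of h hd (E8_low ht) (y := t ^ 108) ((D_up (t := t ^ 3) 5).trans (by rw [← pow_mul, ← pow_mul, ← pow_add])) ?_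
  show 1 * t ^ 108 < t ^ 120
  exact pow_lt' ht (by norm_num) (by norm_num)

/-- the shapes `Y` of type A with the same ratio -/
theorem pairs_tgt (hT : Tgt X) {D d κ D' d' κ' : ℕ} (hX : TypA X D d κ) (hY : TypA Y D' d' κ')
    (hD : D * d' = D' * d) : X = Y ∨ (∃ n, 4 ≤ n ∧ X = .L n ∧ (Y = .C n ∨ Y = .D (n + 1) ∨ Y = .DD n)) ∨
      (X = .L 4 ∧ Y = .E6) ∨ (X = .L 5 ∧ Y = .E8) ∨
      (X = .F4 ∧ (Y = .L 3 ∨ Y = .C 3 ∨ Y = .U 4 ∨ Y = .D 4 ∨ Y = .TE6)) ∨
      (X = .E6 ∧ (Y = .L 4 ∨ Y = .C 4 ∨ Y = .DD 4 ∨ Y = .D 5)) ∨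
      (X = .E7 ∧ (Y = .U 9 ∨ Y = .U 10)) ∨
      (X = .E8 ∧ (Y = .L 5 ∨ Y = .C 5 ∨ Y = .DD 5 ∨ Y = .D 6)) := by
  rcases hT with ⟨n, hn, rfl⟩ | rfl | rfl | rfl | rfl <;> cases hX <;> cases hY
  all_goals first
    | exact Or.inl rfl
    | (exfalso; omega)
    | (left; congr 1; omega)
    | (right; left; refine ⟨_, hn, rfl, Or.inl ?_⟩; congr 1; omega)
    | (right; left; refine ⟨_, hn, rfl, Or.inr (Or.inl ?_)⟩; congr 1; omega)
    | (right; left; refine ⟨_, hn, rfl, Or.inr (Or.inr ?_)⟩; congr 1; omega)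
    | (right; right; simp; (solve | lia | omega))
    | (right; right; simp; done)

/-- **The same characteristic.** -/
theorem same_num (hT : Tgt X) (hX : Real X p f N) (hY : Real Y p g M) (hk : N = k * M) (hkp : k = P p k) :
    (X = Y ∧ f = g) ∨ (N = 20160 ∧ M = 20160) := by
  have hf := hX.hf
  have hg := hY.hf
  have hNX := NN_pos hX
  have hNY := NN_pos hY
  have hle := exp_le hX hY hk hkp
  have hexp := exps hX hY hk hkp
  have hgeX := DM_ge hX
  have hgeY := DM_ge hY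
  obtain ⟨hBX, hD4, hB3⟩ := hT.big
  have hk0 : k ≠ 0 := by rintro rfl; rw [zero_mul] at hk; exact hX.M_ne hk
  -- small cases in characteristic two
  by_cases hsmall : p = 2 ∧ f * NN X ≤ 21
  · obtain ⟨rfl, hle21⟩ := hsmall
    have h1 : f * NN X ∈ List.range' 1 21 := by
      rw [List.mem_range'_1]
      have : 1 ≤ f * NN X := Nat.mul_pos hf hNX
      omega
    have h2 : g * NN Y ∈ List.range' 1 21 := by
      rw [List.mem_range'_1]
      have : 1 ≤ g * NN Y := Nat.mul_pos hg hNY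
      omega
    have h3 : _root_.Cfsg.Agent.H902.Art.val 2 (X, f) = 2 ^ (f * NN X - g * NN Y) * _root_.Cfsg.Agent.H902.Art.val 2 (Y, g) := by
      rw [val_eq hX, val_eq hY, hk]
      congr 1
      have h4 : 2 ^ (f * NN X - g * NN Y) * 2 ^ (g * NN Y) = k * 2 ^ (g * NN Y) := by
        rw [← pow_add, Nat.sub_add_cancel hle, pow_mul, pow_mul, hexp]
      exact (Nat.eq_of_mul_eq_mul_right (pow_pos (by norm_num) _) h4).symm
    rcases fin_two2 _ h1 _ (List.mem_filter.2 ⟨mem_ents hX rfl, tgtB_of hT⟩) _ h2 _ (mem_ents hY rfl) hle h3 with h4 | h4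
    · left
      exact ⟨congrArg Prod.fst h4, congrArg Prod.snd h4⟩
    · right
      rw [val_eq hX, val_eq hY] at h4
      exact h4
  left
  have hdXY : ∀ r : ℕ, r.Prime → r ≠ p → r ∣ N → r ∣ M := by
    intro r hr hrp hrN
    rw [hk] at hrN
    rcases hr.dvd_mul.1 hrN with h | h
    · exfalso
      rw [hkp, P] at h
      exact hrp ((Nat.prime_dvd_prime_iff_eq hr hX.hp).1 (hr.dvd_of_dvd_pow h))
    · exact h
  have hdYX : ∀ r : ℕ, r.Prime → r ≠ p → r ∣ M → r ∣ N := by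
    intro r hr hrp hrM
    rw [hk]
    exact hrM.mul_left _
  -- a bound for `f · NN X`
  have hbd : f * DM X ≤ 6 → f * NN X ≤ 21 := by
    intro h6
    have h1 := four_NN hX
    have h2 := kap_le hX
    have h3 : DM X ≤ 6 := by nlinarith only [hf, h6]
    have h4 : 4 * (f * NN X) = (f * DM X) * kap X := by
      calc 4 * (f * NN X) = f * (4 * NN X) := by ring
        _ = f * (DM X * kap X) := by rw [h1]
        _ = (f * DM X) * kap X := by ring
    have h5 : (f * DM X) * kap X ≤ 6 * 10 := Nat.mul_le_mul h6 (by omega)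
    omega
  have hbd' : f * BM X ≤ 6 → f * NN X ≤ 21 := by
    intro h6
    rcases hT with ⟨n, hn, rfl⟩ | rfl | rfl | rfl | rfl
    · have h1 : f * (n - 1) ≤ 6 := h6
      show f * (n * (n - 1) / 2) ≤ 21
      obtain ⟨m, rfl⟩ := Nat.exists_eq_add_of_le' hn
      have h2 : f * (m + 3) ≤ 6 := h1
      have h3 : m ≤ 3 := by nlinarith only [hf, h2]
      have h4 : f ≤ 2 := by nlinarith only [h2]
      interval_cases f <;> interval_cases m <;> first | (norm_num; done) | omega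
    · have h1 : f * 8 ≤ 6 := h6
      omega
    · have h1 : f * 9 ≤ 6 := h6
      omega
    · have h1 : f * 14 ≤ 6 := h6
      omega
    · have h1 : f * 24 ≤ 6 := h6
      omega
  have hDX4 : 4 ≤ f * DM X := by nlinarith only [hf, hD4]
  have hBX3 : 3 ≤ f * BM X := by nlinarith only [hBX, hDX4]
  have h6X : ¬ (p = 2 ∧ f * DM X = 6) := fun h => hsmall ⟨h.1, hbd h.2.le⟩
  have h6B : ¬ (p = 2 ∧ f * BM X = 6) := fun h => hsmall ⟨h.1, hbd' h.2.le⟩
  have hD1 := DM_le2 hX hY hdXY (by omega) h6X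
  have hD2 := DM_le2 hY hX hdYX (by omega) (fun h => hsmall ⟨h.1, hbd (hD1.trans h.2.le)⟩)
  have hD : f * DM X = g * DM Y := le_antisymm hD1 hD2
  have hB1 := BM_le2 hX hY hdXY hBX hD hBX3 h6B
  have hBY : DM Y < 2 * BM Y := by
    have h5 : g * DM Y < g * (2 * BM Y) := by
      calc g * DM Y = f * DM X := hD.symm
        _ < f * (2 * BM X) := Nat.mul_lt_mul_of_pos_left hBX hf
        _ = 2 * (f * BM X) := by ring
        _ ≤ 2 * (g * BM Y) := Nat.mul_le_mul_left _ hB1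
        _ = g * (2 * BM Y) := by ring
    exact Nat.lt_of_mul_lt_mul_left h5
  have hB2 := BM_le2 hY hX hdYX hBY hD.symm (hBX3.trans hB1) (fun h => hsmall ⟨h.1, hbd' (hB1.trans h.2.le)⟩)
  have hBB : f * BM X = g * BM Y := le_antisymm hB1 hB2
  have hltX := BM_lt hX
  have hltY := BM_lt hY
  have hdd : f * (DM X - BM X) = g * (DM Y - BM Y) := by
    rw [Nat.mul_sub, Nat.mul_sub, hD, hBB]
  have hcr : DM X * (DM Y - BM Y) = DM Y * (DM X - BM X) := by
    have h7 : f * g * (DM X * (DM Y - BM Y)) = f * g * (DM Y * (DM X - BM X)) := by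
      calc f * g * (DM X * (DM Y - BM Y)) = (f * DM X) * (g * (DM Y - BM Y)) := by ring
        _ = (g * DM Y) * (f * (DM X - BM X)) := by rw [hD, hdd]
        _ = f * g * (DM Y * (DM X - BM X)) := by ring
    exact Nat.eq_of_mul_eq_mul_left (Nat.mul_pos hf hg) h7
  have hE : Eqn X Y (p ^ f) (p ^ g) := cross2 hX hY hk hkp
  have hdX := dd_pos hX
  have hdY := dd_pos hY
  have tp : ∀ e : ℕ, 1 ≤ e → 2 ≤ p ^ e := fun e he => hX.hp.two_le.trans (Nat.le_self_pow (by omega) p)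
  have hq : ∀ a b : ℕ, p ^ (a * b) = (p ^ b) ^ a := fun a b => by rw [mul_comm, pow_mul]
  clear hexp hle hdXY hdYX hbd hbd' hsmall h6X h6B hk hkp hB1 hB2 hD1 hD2
  rcases pairs_tgt hT (typA hX hBX) (typA hY hBY) hcr with h | ⟨n, hn, rfl, h⟩ | ⟨rfl, rfl⟩ | ⟨rfl, rfl⟩ | ⟨rfl, h⟩ |
      ⟨rfl, h⟩ | ⟨rfl, h⟩ | ⟨rfl, h⟩
  · refine ⟨h, ?_⟩
    rw [h] at hD
    exact Nat.eq_of_mul_eq_mul_right (by omega) hD
  · exfalso
    have h1 : f = 2 * g := by
      have h2 : f * n = g * (2 * n) := by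
        rcases h with rfl | rfl | rfl
        · exact hD
        · exact hD
        · exact hD
      have h3 : f * n = (2 * g) * n := by rw [h2]; ring
      exact Nat.eq_of_mul_eq_mul_right (by omega) h3
    subst h1
    rw [hq 2 g] at hE hdX
    rcases h with rfl | rfl | rfl
    · exact ser_LC hn (tp g hg) hE hdX
    · exact ser_LD hn (tp g hg) hE hdX
    · exact ser_LDD hn (tp g hg) hE hdY
  · -- `L4(t³)` against `E6(t)`
    exfalso
    have h1 : f = 3 * g := by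
      have h2 : f * 4 = g * 12 := hD
      omega
    subst h1
    rw [hq 3 g] at hE hdX
    exact E6_L4 (tp g hg) hE.symm hdX
  · exfalso
    have h1 : f = 6 * g := by
      have h2 : f * 5 = g * 30 := hD
      omega
    subst h1
    rw [hq 6 g] at hE hdX
    exact E8_L5 (tp g hg) hE.symm hdX
  · exfalso
    rcases h with rfl | rfl | rfl | rfl | rfl
    · have h1 : g = 4 * f := by
        have h2 : f * 12 = g * 3 := hD
        omega
      subst h1
      rw [hq 4 f] at hE hdY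
      exact F4_L3 (tp f hf) hE hdY
    · have h1 : g = 2 * f := by
        have h2 : f * 12 = g * 6 := hD
        omega
      subst h1
      rw [hq 2 f] at hE hdY
      exact F4_C3 (tp f hf) hE hdY
    · have h1 : g = 2 * f := by
        have h2 : f * 12 = g * 6 := hD
        omega
      subst h1
      rw [hq 2 f] at hE hdY
      exact F4_U4 (tp f hf) hE hdY
    · have h1 : g = 2 * f := by
        have h2 : f * 12 = g * 6 := hD
        omega
      subst h1
      rw [hq 2 f] at hE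
      exact F4_D4 (tp f hf) hE
    · obtain ⟨e, rfl⟩ : ∃ e, f = 3 * e := by
        have h2 : f * 12 = g * 18 := hD
        exact ⟨f / 3, by omega⟩
      have h1 : g = 2 * e := by
        have h2 : 3 * e * 12 = g * 18 := hD
        omega
      subst h1
      rw [hq 3 e, hq 2 e] at hE
      exact F4_TE6 (tp e (by omega)) hE
  · exfalso
    rcases h with rfl | rfl | rfl | rfl
    · have h1 : g = 3 * f := by
        have h2 : f * 12 = g * 4 := hD
        omega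
      subst h1
      rw [hq 3 f] at hE hdY
      exact E6_L4 (tp f hf) hE hdY
    all_goals
      obtain ⟨e, rfl⟩ : ∃ e, f = 2 * e := by
        have h2 : f * 12 = g * 8 := hD
        exact ⟨f / 2, by (clear * - h2; omega)⟩
      have h1 : g = 3 * e := by
        have h2 : 2 * e * 12 = g * 8 := hD
        (clear * - h2; solve | lia | omega)
      subst h1
      rw [hq 2 e, hq 3 e] at hE
      rw [hq 3 e] at hdY
    · exact E6_C4 (tp e (by omega)) hE hdY
    · exact E6_DD4 (tp e (by omega)) hE hdY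
    · exact E6_D5 (tp e (by omega)) hE hdY
  · exfalso
    have h1 : g = f := by
      rcases h with rfl | rfl
      · have h2 : f * 18 = g * 18 := hD
        omega
      · have h2 : f * 18 = g * 18 := hD
        omega
    subst h1
    rcases h with rfl | rfl
    · exact E7_U9 (tp g hg) hE hdY
    · exact E7_U10 (tp g hg) hE hdY
  · exfalso
    rcases h with rfl | h
    · have h1 : g = 6 * f := by
        have h2 : f * 30 = g * 5 := hD
        omega
      subst h1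
      rw [hq 6 f] at hE hdY
      exact E8_L5 (tp f hf) hE hdY
    · have h1 : g = 3 * f := by
        rcases h with rfl | rfl | rfl
        · have h2 : f * 30 = g * 10 := hD
          omega
        · have h2 : f * 30 = g * 10 := hD
          omega
        · have h2 : f * 30 = g * 10 := hD
          omega
      subst h1
      rw [hq 3 f] at hE hdY
      rcases h with rfl | rfl | rfl
      · exact E8_C5 (tp f hf) hE hdY
      · exact E8_DD5 (tp f hf) hE hdY
      · exact E8_D6 (tp f hf) hE hdY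

end Cfsg.Agent.H66.Cod
end

-- part: H352/Cd/Base
section
/-!
# Codegrees (S3538, S3539): finite enumerations, common part (helper352)
-/

set_option autoImplicit false

namespace Cfsg.Agent.H352.Cd

open Cfsg.Agent.H902.Art Cfsg.Agent.H66.Cod Finset

/-- `∏ i < k, (q ^ (i + 2) - 1)` -/
noncomputable def pr (q : ℕ) (k : ℕ) : ℕ :=
  Nat.rec (motive := fun _ => ℕ) 1 (fun k ih => Nat.mul ih (Nat.sub (Nat.pow q (Nat.add k 2)) 1)) k

theorem pr_eq (q k : ℕ) : pr q k = ∏ i ∈ range k, (q ^ (i + 2) - 1) := by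
  induction k with
  | zero => rfl
  | succ k ih =>
    rw [prod_range_succ, ← ih]
    rfl

/-- `num` -/
noncomputable def numF : Sh → ℕ → ℕ
  | .L n, q => pr q (n - 1)
  | X, q => num X q

theorem numF_eq (X : Sh) (q : ℕ) : numF X q = num X q := by
  cases X <;> first | rfl | exact pr_eq _ _

/-- the order times `dd` -/
noncomputable def TT (X : Sh) (q : ℕ) : ℕ := Nat.mul (Nat.pow q (NN X)) (numF X q)

theorem TT_eq {X : Sh} {p f N : ℕ} (h : Real X p f N) : TT X (p ^ f) = dd X (p ^ f) * N := by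
  rw [h.eq, ← numF_eq]
  rfl

/-- the shapes -/
def TL : List Sh := ((List.range 24).map fun i => Sh.L (i + 4)) ++ ([.F4, .E6, .E7, .E8] : List Sh)

theorem mem_TL {X : Sh} (hX : Tgt X) (h : NN X ≤ 357) : X ∈ TL := by
  rcases hX with ⟨n, hn, rfl⟩ | rfl | rfl | rfl | rfl
  · unfold TL
    rw [List.mem_append, List.mem_map]
    left
    refine ⟨n - 4, ?_, by congr 1; omega⟩
    rw [List.mem_range]
    by_contra hcon
    have h1 : 28 ≤ n := by omega
    have h2 : n * (n - 1) / 2 ≤ 357 := h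
    have h3 : 28 * 27 ≤ n * (n - 1) := Nat.mul_le_mul h1 (by omega)
    have h4 : 378 ≤ n * (n - 1) / 2 := by
      rw [Nat.le_div_iff_mul_le (by norm_num)]
      omega
    omega
  · simp [TL]
  · simp [TL]
  · simp [TL]
  · simp [TL]

theorem Tgt.NN_pos {X : Sh} (hX : Tgt X) : 1 ≤ NN X := by
  rcases hX with ⟨n, hn, rfl⟩ | rfl | rfl | rfl | rfl
  · show 1 ≤ n * (n - 1) / 2
    rw [Nat.le_div_iff_mul_le (by norm_num)]
    have h3 : 4 * 3 ≤ n * (n - 1) := Nat.mul_le_mul hn (by omega)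
    omega
  all_goals decide

end Cfsg.Agent.H352.Cd
end

-- part: H352/Cd/Spor
section
/-!
# Codegrees (S3538, S3539): the sporadic groups (helper352)
-/

set_option autoImplicit false
set_option exponentiation.threshold 400

namespace Cfsg.Agent.H352.Cd

open Cfsg.Agent.H902.Art Cfsg.Agent.H66.Cod Finset

/-- the primes -/
def PL : List ℕ := [2, 3, 5, 7, 11, 13, 17, 19, 23, 29, 31, 37, 41, 43, 47, 53, 59, 61, 67, 71]

/-- the test -/
noncomputable def testS (M T d : ℕ) : Bool :=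
  cond (Nat.beq (Nat.mod T (Nat.mul d M)) 0)
    (cond (Nat.ble (Nat.mul d (Nat.mul M M)) (Nat.mul 4 T)) true
      (and (Nat.beq M 604800) (Nat.beq T (Nat.mul d 987033600)))) true

/-- the enumeration -/
noncomputable def allS : Bool :=
  sporList.all fun M => PL.all fun p => cond (Nat.beq (Nat.mod M p) 0)
    (TL.all fun X => (List.range (Nat.div 357 (NN X))).all fun i =>
      cond (Nat.ble (Nat.mul M M) (Nat.pow p (Nat.mul (Nat.succ i) (NN X)))) true
        (testS M (TT X (Nat.pow p (Nat.succ i))) (dd X (Nat.pow p (Nat.succ i))))) true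

private theorem _root_.Cfsg.Agent.KOb0f31fa.e1.{ku, kv} {α : Type kv} {M : List α → Sort ku} (φ : ∀ l, M l) {z : M List.nil} {s : ∀ a l, M l → M (List.cons a l)} (h0 : φ List.nil = z) (hs : ∀ a l, φ (List.cons a l) = s a l (φ l)) (l : List α) : φ l = @List.rec α M z s l := List.rec h0 (fun a l ih => (hs a l).trans (congrArg (s a l) ih)) l
private noncomputable def _root_.Cfsg.Agent.KOb0f31fa.k8 : (by first | exact type_of% @Cfsg.Agent.H902.Art.NN | exact Unit : Sort _) := by first | (refine @Subtype.val _ (fun g => @Cfsg.Agent.H902.Art.NN = @g) (@Subtype.mk _ _ (@(fun x0 => @Cfsg.Agent.H902.Art.Sh.rec.{1} @(fun x1 => ℕ) @(fun x1 => @Nat.div (@Nat.mul @x1 (@Nat.sub @x1 (nat_lit 1))) (nat_lit 2)) @(fun x1 => @Nat.pow @x1 (nat_lit 2)) @(fun x1 => @Nat.div (@Nat.mul @x1 (@Nat.sub @x1 (nat_lit 1))) (nat_lit 2)) @(fun x1 => @Nat.mul @x1 (@Nat.sub @x1 (nat_lit 1))) @(fun x1 => @Nat.mul @x1 (@Nat.sub @x1 (nat_lit 1)))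 (nat_lit 6) (nat_lit 24) (nat_lit 36) (nat_lit 63) (nat_lit 120) (nat_lit 36) (nat_lit 12) (nat_lit 2) (nat_lit 3) (nat_lit 12) @x0)) ?_); rfl') | exact @Cfsg.Agent.H902.Art.NN | exact ()
private theorem _root_.Cfsg.Agent.KOb0f31fa.e8 : (by first | exact @Cfsg.Agent.H902.Art.NN = @_root_.Cfsg.Agent.KOb0f31fa.k8 | exact True : Prop) := by first | (delta _root_.Cfsg.Agent.KOb0f31fa.k8; exact @Subtype.property _ (fun g => @Cfsg.Agent.H902.Art.NN = @g) _) | rfl | trivial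
private noncomputable def _root_.Cfsg.Agent.KOb0f31fa.k10 : (by first | exact type_of% @Cfsg.Agent.H902.Art.dd | exact Unit : Sort _) := by first | (refine @Subtype.val _ (fun g => @Cfsg.Agent.H902.Art.dd = @g) (@Subtype.mk _ _ (@(fun x0 x1 => @Cfsg.Agent.H902.Art.Sh.rec.{1} @(fun x2 => ((@Nat.hasNotBit (nat_lit 1439) (@Cfsg.Agent.H902.Art.Sh.ctorIdx @x2)) → ℕ) → ℕ) @(fun x2 x3 => @Nat.gcd @x2 (@Nat.sub @x1 (nat_lit 1))) @(fun x2 x3 => @Nat.gcd (nat_lit 2) (@Nat.sub @x1 (nat_lit 1))) @(fun x2 x3 => @Nat.gcd @x2 (@Nat.add @x1 (nat_lit 1))) @(fun x2 x3 => @Nat.gcd (nat_lit 4) (@Nat.sub (@Nat.pow @x1 @x2) (nat_lit 1))) @(fun x2 x3 => @Nat.gcd (nat_lit 4) (@Nat.add (@Nat.pow @x1 @x2) (nat_lit 1))) @(fun x2 => @x2 (@Nat.ne_of_beq_eq_false _ _ (@Eq.refl.{1} _ @Bool.false))) @(fun x2 => @x2 (@Nat.ne_of_beq_eq_false _ _ (@Eq.refl.{1} _ @Bool.false))) @(fun x2 => @Nat.gcd (nat_lit 3) (@Nat.sub @x1 (nat_lit 1))) @(fun x2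 => @Nat.gcd (nat_lit 2) (@Nat.sub @x1 (nat_lit 1))) @(fun x2 => @x2 (@Nat.ne_of_beq_eq_false _ _ (@Eq.refl.{1} _ @Bool.false))) @(fun x2 => @Nat.gcd (nat_lit 3) (@Nat.add @x1 (nat_lit 1))) @(fun x2 => @x2 (@Nat.ne_of_beq_eq_false _ _ (@Eq.refl.{1} _ @Bool.false))) @(fun x2 => @x2 (@Nat.ne_of_beq_eq_false _ _ (@Eq.refl.{1} _ @Bool.false))) @(fun x2 => @x2 (@Nat.ne_of_beq_eq_false _ _ (@Eq.refl.{1} _ @Bool.false))) @(fun x2 => @x2 (@Nat.ne_of_beq_eq_false _ _ (@Eq.refl.{1} _ @Bool.false))) @x0 @(fun x2 => nat_lit 1))) ?_); (try delta Cfsg.Agent.H902.Art.dd); (try generalize @Cfsg.Agent.H902.Art.Sh.ctorIdx = g0); rfl') | exact @Cfsg.Agent.H902.Art.dd | exact ()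
private theorem _root_.Cfsg.Agent.KOb0f31fa.e10 : (by first | exact @Cfsg.Agent.H902.Art.dd = @_root_.Cfsg.Agent.KOb0f31fa.k10 | exact True : Prop) := by first | (delta _root_.Cfsg.Agent.KOb0f31fa.k10; exact @Subtype.property _ (fun g => @Cfsg.Agent.H902.Art.dd = @g) _) | rfl | trivial
private noncomputable def _root_.Cfsg.Agent.KOb0f31fa.k17.{ku0, ku1} : type_of% @List.map.{ku0, ku1} := @(fun x0 x1 x2 x3 => @List.rec.{(ku1+1), ku0} @x0 @(fun x4 => @List.{ku1} @x1) [] @(fun x4 x5 x6 => (@x2 @x4) :: @x6) @x3)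
private theorem _root_.Cfsg.Agent.KOb0f31fa.e17.{ku0, ku1} : @List.map.{ku0, ku1} = @_root_.Cfsg.Agent.KOb0f31fa.k17.{ku0, ku1} := by delta _root_.Cfsg.Agent.KOb0f31fa.k17; funext a0 a1 a2 a3; refine (_root_.Cfsg.Agent.KOb0f31fa.e1 (fun a3 => @List.map.{ku0, ku1} a0 a1 a2 a3) ?_ (fun c0 c1 => ?_) a3 :) <;> (rfl')
private theorem _root_.Cfsg.Agent.KOb0f31fa.e18.{ku} {M : Nat → Sort ku} (φ : ∀ n, M n) {z : M Nat.zero} {s : ∀ n, M n → M (Nat.succ n)} (h0 : φ Nat.zero = z) (hs : ∀ n, φ (Nat.succ n) = s n (φ n)) (n : Nat) : φ n = @Nat.rec M z s n := Nat.rec h0 (fun n ih => (hs n).trans (congrArg (s n) ih)) n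
private noncomputable def _root_.Cfsg.Agent.KOb0f31fa.k19 : type_of% @List.range.loop := @(fun x0 x1 => @Nat.rec.{1} @(fun x2 => (@List.{0} ℕ) → @List.{0} ℕ) @(fun x2 => @x2) @(fun x2 x3 x4 => @x3 (@x2 :: @x4)) @x0 @x1)
private theorem _root_.Cfsg.Agent.KOb0f31fa.e19 : @List.range.loop = @_root_.Cfsg.Agent.KOb0f31fa.k19 := by delta _root_.Cfsg.Agent.KOb0f31fa.k19; funext a0 a1; refine (congrFun (_root_.Cfsg.Agent.KOb0f31fa.e18 (fun a0 a1 => @List.range.loop a0 a1) ?_ (fun c0 => ?_) a0) a1 :) <;> (rfl')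
private noncomputable def _root_.Cfsg.Agent.KOb0f31fa.k25 : type_of% @List.range := @(fun x0 => @Cfsg.Agent.KOb0f31fa.k19 @x0 [])
private theorem _root_.Cfsg.Agent.KOb0f31fa.e25 : @List.range = @_root_.Cfsg.Agent.KOb0f31fa.k25 := by delta _root_.Cfsg.Agent.KOb0f31fa.k25; rewrite [← Cfsg.Agent.KOb0f31fa.e19]; rfl'
private noncomputable def _root_.Cfsg.Agent.KOb0f31fa.k26.{ku0} : type_of% @List.all.{ku0} := @(fun x0 x1 x2 => @List.rec.{(ku0+1), ku0} @x0 @(fun x3 => (@x0 → @Bool) → @Bool) @(fun x3 => @Bool.true) @(fun x3 x4 x5 x6 => @Bool.rec.{1} @(fun x7 => @Bool) @Bool.false (@x5 @x6) (@x6 @x3)) @x1 @x2)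
private theorem _root_.Cfsg.Agent.KOb0f31fa.e26.{ku0} : @List.all.{ku0} = @_root_.Cfsg.Agent.KOb0f31fa.k26.{ku0} := by delta _root_.Cfsg.Agent.KOb0f31fa.k26; funext a0 a1 a2; refine (congrFun (_root_.Cfsg.Agent.KOb0f31fa.e1 (fun a1 a2 => @List.all.{ku0} a0 a1 a2) ?_ (fun c0 c1 => ?_) a1) a2 :) <;> (rfl')
private noncomputable def _root_.Cfsg.Agent.KOb0f31fa.k27.{ku0} : type_of% @cond.{ku0} := @(fun x0 x1 x2 x3 => @Bool.rec.{ku0} @(fun x4 => @x0) @x3 @x2 @x1)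
private theorem _root_.Cfsg.Agent.KOb0f31fa.e27.{ku0} : @cond.{ku0} = @_root_.Cfsg.Agent.KOb0f31fa.k27.{ku0} := by delta _root_.Cfsg.Agent.KOb0f31fa.k27; rfl'
private noncomputable def _root_.Cfsg.Agent.KOb0f31fa.k28 : (by first | exact type_of% @Cfsg.Agent.H352.Cd.testS | exact Unit : Sort _) := by first | (refine @Subtype.val _ (fun g => @Cfsg.Agent.H352.Cd.testS = @g) (@Subtype.mk _ _ (@(fun x0 x1 x2 => @Bool.rec.{1} @(fun x3 => @Bool) @Bool.true (@Bool.rec.{1} @(fun x3 => @Bool) (@Bool.rec.{1} @(fun x3 => @Bool) @Bool.false (@Nat.beq @x1 (@Nat.mul @x2 (nat_lit 987033600))) (@Nat.beq @x0 (nat_lit 604800))) @Bool.true (@Nat.ble (@Nat.mul @x2 (@Nat.mul @x0 @x0)) (@Nat.mul (nat_lit 4) @x1))) (@Nat.beq (@Nat.mod @x1 (@Nat.mul @x2 @x0)) (nat_lit 0)))) ?_); rfl') | exact @Cfsg.Agent.H352.Cd.testS | exact ()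
private theorem _root_.Cfsg.Agent.KOb0f31fa.e28 : (by first | exact @Cfsg.Agent.H352.Cd.testS = @_root_.Cfsg.Agent.KOb0f31fa.k28 | exact True : Prop) := by first | (delta _root_.Cfsg.Agent.KOb0f31fa.k28; exact @Subtype.property _ (fun g => @Cfsg.Agent.H352.Cd.testS = @g) _) | rfl | trivial
private noncomputable def _root_.Cfsg.Agent.KOb0f31fa.k29 : (by first | exact type_of% @Cfsg.Agent.H352.Cd.pr | exact Unit : Sort _) := by first | (refine @Subtype.val _ (fun g => @Cfsg.Agent.H352.Cd.pr = @g) (@Subtype.mk _ _ (@(fun x0 x1 => @Nat.rec.{1} @(fun x2 => ℕ) (nat_lit 1) @(fun x2 x3 => @Nat.mul @x3 (@Nat.sub (@Nat.pow @x0 (@Nat.add @x2 (nat_lit 2))) (nat_lit 1))) @x1)) ?_); rfl') | exact @Cfsg.Agent.H352.Cd.pr | exact ()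
private theorem _root_.Cfsg.Agent.KOb0f31fa.e29 : (by first | exact @Cfsg.Agent.H352.Cd.pr = @_root_.Cfsg.Agent.KOb0f31fa.k29 | exact True : Prop) := by first | (delta _root_.Cfsg.Agent.KOb0f31fa.k29; exact @Subtype.property _ (fun g => @Cfsg.Agent.H352.Cd.pr = @g) _) | rfl | trivial
private noncomputable def _root_.Cfsg.Agent.KOb0f31fa.k30 : (by first | exact type_of% @Cfsg.Agent.H352.Cd.numF | exact Unit : Sort _) := by first | (refine @Subtype.val _ (fun g => @Cfsg.Agent.H352.Cd.numF = @g) (@Subtype.mk _ _ (@(fun (x0 : @Cfsg.Agent.H902.Art.Sh) (x1 : @Nat) => @Cfsg.Agent.H902.Art.Sh.rec.{1} @(fun (x2 : @Cfsg.Agent.H902.Art.Sh) => (((@Nat.hasNotBit (nat_lit 1) (@Cfsg.Agent.H902.Art.Sh.ctorIdx @x2)) → @Nat) → @Nat)) @(fun (x2 : @Nat) (x3 : ((@Nat.hasNotBit (nat_lit 1) (@Cfsg.Agent.H902.Art.Sh.ctorIdx (@Cfsg.Agent.H902.Art.Sh.L @x2))) → @Nat)) => @Cfsg.Agent.KOb0f31fa.k29 @x1 (@Nat.sub @x2 (nat_lit 1))) @(fun (x2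 : @Nat) (x3 : ((@Nat.hasNotBit (nat_lit 1) (@Cfsg.Agent.H902.Art.Sh.ctorIdx (@Cfsg.Agent.H902.Art.Sh.C @x2))) → @Nat)) => @x3 (@Nat.ne_of_beq_eq_false (@Nat.land (@OfNat.ofNat.{0} @Nat (nat_lit 1) (@instOfNatNat (nat_lit 1))) (@Nat.shiftRight (nat_lit 1) (nat_lit 1))) (@OfNat.ofNat.{0} @Nat (nat_lit 1) (@instOfNatNat (nat_lit 1))) (@Eq.refl.{1} @Bool @Bool.false))) @(fun (x2 : @Nat) (x3 : ((@Nat.hasNotBit (nat_lit 1) (@Cfsg.Agent.H902.Art.Sh.ctorIdx (@Cfsg.Agent.H902.Art.Sh.U @x2))) → @Nat)) => @x3 (@Nat.ne_of_beq_eq_false (@Nat.land (@OfNat.ofNat.{0} @Nat (nat_lit 1) (@instOfNatNat (nat_lit 1))) (@Nat.shiftRight (nat_lit 1) (nat_lit 2))) (@OfNat.ofNat.{0} @Nat (nat_lit 1) (@instOfNatNat (nat_lit 1))) (@Eq.refl.{1} @Bool @Bool.false))) @(fun (x2 : @Nat) (x3 : ((@Nat.hasNotBit (nat_lit 1) (@Cfsg.Agent.H902.Art.Sh.ctorIdx (@Cfsg.Agent.H902.Art.Sh.D @x2))) → @Nat)) => @x3 (@Nat.ne_of_beq_eq_false (@Nat.land (@OfNat.ofNat.{0}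 @Nat (nat_lit 1) (@instOfNatNat (nat_lit 1))) (@Nat.shiftRight (nat_lit 1) (nat_lit 3))) (@OfNat.ofNat.{0} @Nat (nat_lit 1) (@instOfNatNat (nat_lit 1))) (@Eq.refl.{1} @Bool @Bool.false))) @(fun (x2 : @Nat) (x3 : ((@Nat.hasNotBit (nat_lit 1) (@Cfsg.Agent.H902.Art.Sh.ctorIdx (@Cfsg.Agent.H902.Art.Sh.DD @x2))) → @Nat)) => @x3 (@Nat.ne_of_beq_eq_false (@Nat.land (@OfNat.ofNat.{0} @Nat (nat_lit 1) (@instOfNatNat (nat_lit 1))) (@Nat.shiftRight (nat_lit 1) (nat_lit 4))) (@OfNat.ofNat.{0} @Nat (nat_lit 1) (@instOfNatNat (nat_lit 1))) (@Eq.refl.{1} @Bool @Bool.false))) @(fun (x2 : ((@Nat.hasNotBit (nat_lit 1) (@Cfsg.Agent.H902.Art.Sh.ctorIdx @Cfsg.Agent.H902.Art.Sh.G2)) → @Nat)) => @x2 (@Nat.ne_of_beq_eq_false (@Nat.land (@OfNat.ofNat.{0} @Nat (nat_lit 1) (@instOfNatNat (nat_lit 1))) (@Nat.shiftRight (nat_lit 1) (nat_lit 5))) (@OfNat.ofNat.{0} @Nat (nat_lit 1) (@instOfNatNat (nat_lit 1))) (@Eq.refl.{1} @Bool @Bool.false)))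 @(fun (x2 : ((@Nat.hasNotBit (nat_lit 1) (@Cfsg.Agent.H902.Art.Sh.ctorIdx @Cfsg.Agent.H902.Art.Sh.F4)) → @Nat)) => @x2 (@Nat.ne_of_beq_eq_false (@Nat.land (@OfNat.ofNat.{0} @Nat (nat_lit 1) (@instOfNatNat (nat_lit 1))) (@Nat.shiftRight (nat_lit 1) (nat_lit 6))) (@OfNat.ofNat.{0} @Nat (nat_lit 1) (@instOfNatNat (nat_lit 1))) (@Eq.refl.{1} @Bool @Bool.false))) @(fun (x2 : ((@Nat.hasNotBit (nat_lit 1) (@Cfsg.Agent.H902.Art.Sh.ctorIdx @Cfsg.Agent.H902.Art.Sh.E6)) → @Nat)) => @x2 (@Nat.ne_of_beq_eq_false (@Nat.land (@OfNat.ofNat.{0} @Nat (nat_lit 1) (@instOfNatNat (nat_lit 1))) (@Nat.shiftRight (nat_lit 1) (nat_lit 7))) (@OfNat.ofNat.{0} @Nat (nat_lit 1) (@instOfNatNat (nat_lit 1))) (@Eq.refl.{1} @Bool @Bool.false))) @(fun (x2 : ((@Nat.hasNotBit (nat_lit 1) (@Cfsg.Agent.H902.Art.Sh.ctorIdx @Cfsg.Agent.H902.Art.Sh.E7)) → @Nat)) => @x2 (@Nat.ne_of_beq_eq_false (@Nat.land (@OfNat.ofNat.{0} @Nat (nat_lit 1) (@instOfNatNat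 (nat_lit 1))) (@Nat.shiftRight (nat_lit 1) (nat_lit 8))) (@OfNat.ofNat.{0} @Nat (nat_lit 1) (@instOfNatNat (nat_lit 1))) (@Eq.refl.{1} @Bool @Bool.false))) @(fun (x2 : ((@Nat.hasNotBit (nat_lit 1) (@Cfsg.Agent.H902.Art.Sh.ctorIdx @Cfsg.Agent.H902.Art.Sh.E8)) → @Nat)) => @x2 (@Nat.ne_of_beq_eq_false (@Nat.land (@OfNat.ofNat.{0} @Nat (nat_lit 1) (@instOfNatNat (nat_lit 1))) (@Nat.shiftRight (nat_lit 1) (nat_lit 9))) (@OfNat.ofNat.{0} @Nat (nat_lit 1) (@instOfNatNat (nat_lit 1))) (@Eq.refl.{1} @Bool @Bool.false))) @(fun (x2 : ((@Nat.hasNotBit (nat_lit 1) (@Cfsg.Agent.H902.Art.Sh.ctorIdx @Cfsg.Agent.H902.Art.Sh.TE6)) → @Nat)) => @x2 (@Nat.ne_of_beq_eq_false (@Nat.land (@OfNat.ofNat.{0} @Nat (nat_lit 1) (@instOfNatNat (nat_lit 1))) (@Nat.shiftRight (nat_lit 1) (nat_lit 10))) (@OfNat.ofNat.{0} @Nat (nat_lit 1) (@instOfNatNat (nat_lit 1))) (@Eq.refl.{1} @Bool @Bool.false))) @(fun (x2 : ((@Nat.hasNotBit (nat_lit 1) (@Cfsg.Agent.H902.Art.Sh.ctorIdx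 @Cfsg.Agent.H902.Art.Sh.TD4)) → @Nat)) => @x2 (@Nat.ne_of_beq_eq_false (@Nat.land (@OfNat.ofNat.{0} @Nat (nat_lit 1) (@instOfNatNat (nat_lit 1))) (@Nat.shiftRight (nat_lit 1) (nat_lit 11))) (@OfNat.ofNat.{0} @Nat (nat_lit 1) (@instOfNatNat (nat_lit 1))) (@Eq.refl.{1} @Bool @Bool.false))) @(fun (x2 : ((@Nat.hasNotBit (nat_lit 1) (@Cfsg.Agent.H902.Art.Sh.ctorIdx @Cfsg.Agent.H902.Art.Sh.Sz)) → @Nat)) => @x2 (@Nat.ne_of_beq_eq_false (@Nat.land (@OfNat.ofNat.{0} @Nat (nat_lit 1) (@instOfNatNat (nat_lit 1))) (@Nat.shiftRight (nat_lit 1) (nat_lit 12))) (@OfNat.ofNat.{0} @Nat (nat_lit 1) (@instOfNatNat (nat_lit 1))) (@Eq.refl.{1} @Bool @Bool.false))) @(fun (x2 : ((@Nat.hasNotBit (nat_lit 1) (@Cfsg.Agent.H902.Art.Sh.ctorIdx @Cfsg.Agent.H902.Art.Sh.Ree)) → @Nat)) => @x2 (@Nat.ne_of_beq_eq_false (@Nat.land (@OfNat.ofNat.{0} @Nat (nat_lit 1) (@instOfNatNat (nat_lit 1))) (@Nat.shiftRight (nat_lit 1) (nat_lit 13))) (@OfNat.ofNat.{0}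 @Nat (nat_lit 1) (@instOfNatNat (nat_lit 1))) (@Eq.refl.{1} @Bool @Bool.false))) @(fun (x2 : ((@Nat.hasNotBit (nat_lit 1) (@Cfsg.Agent.H902.Art.Sh.ctorIdx @Cfsg.Agent.H902.Art.Sh.TF4)) → @Nat)) => @x2 (@Nat.ne_of_beq_eq_false (@Nat.land (@OfNat.ofNat.{0} @Nat (nat_lit 1) (@instOfNatNat (nat_lit 1))) (@Nat.shiftRight (nat_lit 1) (nat_lit 14))) (@OfNat.ofNat.{0} @Nat (nat_lit 1) (@instOfNatNat (nat_lit 1))) (@Eq.refl.{1} @Bool @Bool.false))) @x0 @(fun (x2 : @Nat.hasNotBit (nat_lit 1) (@Cfsg.Agent.H902.Art.Sh.ctorIdx @x0)) => @Cfsg.Agent.H902.Art.num @x0 @x1))) ?_); rewrite [← Cfsg.Agent.KOb0f31fa.e29]; (try delta Cfsg.Agent.H352.Cd.numF); (try generalize @Cfsg.Agent.H902.Art.Sh.ctorIdx = g0); (try generalize @Cfsg.Agent.H352.Cd.pr = g1); (try generalize @Cfsg.Agent.H902.Art.num = g2); rfl') | exact @Cfsg.Agent.H352.Cd.numF | exact ()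
private theorem _root_.Cfsg.Agent.KOb0f31fa.e30 : (by first | exact @Cfsg.Agent.H352.Cd.numF = @_root_.Cfsg.Agent.KOb0f31fa.k30 | exact True : Prop) := by first | (delta _root_.Cfsg.Agent.KOb0f31fa.k30; exact @Subtype.property _ (fun g => @Cfsg.Agent.H352.Cd.numF = @g) _) | rfl | trivial
private noncomputable def _root_.Cfsg.Agent.KOb0f31fa.k31 : (by first | exact type_of% @Cfsg.Agent.H352.Cd.TT | exact Unit : Sort _) := by first | (refine @Subtype.val _ (fun g => @Cfsg.Agent.H352.Cd.TT = @g) (@Subtype.mk _ _ (@(fun x0 x1 => @Nat.mul (@Nat.pow @x1 (@Cfsg.Agent.KOb0f31fa.k8 @x0)) (@Cfsg.Agent.KOb0f31fa.k30 @x0 @x1))) ?_); rewrite [← Cfsg.Agent.KOb0f31fa.e30, ← Cfsg.Agent.KOb0f31fa.e8]; (try delta Cfsg.Agent.H352.Cd.TT); (try generalize @Cfsg.Agent.H902.Art.NN = g0); (try generalize @Cfsg.Agent.H352.Cd.numF = g1); rfl') | exact @Cfsg.Agent.H352.Cd.TT | exact ()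
private theorem _root_.Cfsg.Agent.KOb0f31fa.e31 : (by first | exact @Cfsg.Agent.H352.Cd.TT = @_root_.Cfsg.Agent.KOb0f31fa.k31 | exact True : Prop) := by first | (delta _root_.Cfsg.Agent.KOb0f31fa.k31; exact @Subtype.property _ (fun g => @Cfsg.Agent.H352.Cd.TT = @g) _) | rfl | trivial

set_option maxRecDepth 100000 in
theorem allS_true : allS = true := by
  (first | (delta Cfsg.Agent.H352.Cd.allS Cfsg.Agent.H352.Cd.TL; rewrite [Cfsg.Agent.KOb0f31fa.e26.{0}, Cfsg.Agent.KOb0f31fa.e27.{1}, Cfsg.Agent.KOb0f31fa.e17.{0, 0}, Cfsg.Agent.KOb0f31fa.e25, Cfsg.Agent.KOb0f31fa.e8, Cfsg.Agent.KOb0f31fa.e28, Cfsg.Agent.KOb0f31fa.e31, Cfsg.Agent.KOb0f31fa.e10]; decide +kernel) | decide +kernel)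

theorem primes_spor : ∀ M ∈ sporList, M ∣ (PL.prod) ^ 46 := by
  decide +kernel

theorem lt_spor : ∀ M ∈ sporList, M * M < 4 * 2 ^ 358 := by
  decide +kernel

theorem mem_PL {p M : ℕ} (hp : p.Prime) (hM : M ∈ sporList) (hpM : p ∣ M) : p ∈ PL := by
  have h1 := hp.dvd_of_dvd_pow (hpM.trans (primes_spor M hM))
  obtain ⟨a, ha, hpa⟩ := (hp.prime.dvd_prod_iff).1 h1
  have h2 : ∀ a ∈ PL, a.Prime := by
    intro a ha
    simp only [PL, List.mem_cons, List.not_mem_nil, or_false] at ha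
    rcases ha with rfl | rfl | rfl | rfl | rfl | rfl | rfl | rfl | rfl | rfl | rfl | rfl | rfl | rfl | rfl | rfl |
      rfl | rfl | rfl | rfl <;> norm_num
  rwa [(Nat.prime_dvd_prime_iff_eq hp (h2 a ha)).1 hpa]

theorem spor_numeric {X : Cfsg.Agent.H902.Art.Sh} {p f k N M : ℕ} (hX : Cfsg.Agent.H66.Cod.Tgt X)
    (h : Cfsg.Agent.H902.Art.Real X p f N) (hM : M ∈ Cfsg.Agent.H66.Cod.sporList) (hpM : p ∣ M) (hk : N = k * M)
    (h4 : 4 * k < M) : M = 604800 ∧ N = 987033600 := by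
  have hp := h.hp
  have hf := h.hf
  have hM0 : 0 < M := by omega
  have hN0 : 0 < N := Nat.pos_of_ne_zero h.M_ne
  have hdN : dd X (p ^ f) ≠ 0 := h.dd_ne
  -- the `p`-part
  have h5 : (p ^ f) ^ NN X ≤ N := by
    rw [← h.P_self]
    exact P_le h.M_ne
  have h6 : 4 * N < M * M := by
    rw [hk, ← mul_assoc]
    exact Nat.mul_lt_mul_of_pos_right h4 hM0
  have h7' : 4 * p ^ (f * NN X) < M * M := by
    rw [pow_mul]
    omega
  have h7 : p ^ (f * NN X) < M * M := by omega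
  have h8 : f * NN X < 358 := by
    by_contra hcon
    have h9 : 2 ^ 358 ≤ p ^ (f * NN X) :=
      (Nat.pow_le_pow_right (by norm_num) (by omega)).trans (Nat.pow_le_pow_left hp.two_le _)
    have h10 := lt_spor M hM
    have h11 := Nat.mul_le_mul_left 4 h9
    exact absurd (lt_of_le_of_lt h11 (h7'.trans h10)) (lt_irrefl _)
  have hNN := Tgt.NN_pos hX
  have h9 : NN X ≤ 357 := by nlinarith only [hf, h8]
  -- the check
  have h10 := allS_true
  unfold allS at h10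
  rw [List.all_eq_true] at h10
  have h11 := h10 M hM
  rw [List.all_eq_true] at h11
  have h12 := h11 p (mem_PL hp hM hpM)
  have e1 : Nat.beq (Nat.mod M p) 0 = true := by
    rw [Nat.beq_eq]
    exact Nat.mod_eq_zero_of_dvd hpM
  rw [e1, cond_true, List.all_eq_true] at h12
  have h13 := h12 X (mem_TL hX h9)
  rw [List.all_eq_true] at h13
  have h14 := h13 (f - 1) (by
    rw [List.mem_range]
    have : f ≤ 357 / NN X := by
      rw [Nat.le_div_iff_mul_le (by omega)]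
      omega
    show f - 1 < 357 / NN X
    omega)
  have e2 : Nat.succ (f - 1) = f := by omega
  rw [e2] at h14
  have e3 : Nat.ble (Nat.mul M M) (Nat.pow p (Nat.mul f (NN X))) = false := by
    rw [← Bool.not_eq_true, Nat.ble_eq]
    exact Nat.not_le.2 h7
  rw [e3, cond_false] at h14
  unfold testS at h14
  have e4 : TT X (Nat.pow p f) = dd X (p ^ f) * N := TT_eq h
  have e5 : dd X (Nat.pow p f) = dd X (p ^ f) := rfl
  rw [e4, e5] at h14
  set d := dd X (p ^ f) with hd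
  have e6 : Nat.beq (Nat.mod (d * N) (Nat.mul d M)) 0 = true := by
    rw [Nat.beq_eq]
    refine Nat.mod_eq_zero_of_dvd ?_
    show d * M ∣ d * N
    rw [hk]
    exact Nat.mul_dvd_mul_left d (Dvd.intro_left k rfl)
  have e7 : Nat.ble (Nat.mul d (Nat.mul M M)) (Nat.mul 4 (d * N)) = false := by
    rw [← Bool.not_eq_true, Nat.ble_eq, not_le]
    show 4 * (d * N) < d * (M * M)
    have : 4 * (d * N) = d * (4 * N) := by ring
    rw [this]
    exact Nat.mul_lt_mul_of_pos_left h6 (Nat.pos_of_ne_zero hdN)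
  rw [e6, cond_true, e7, cond_false, Bool.and_eq_true, Nat.beq_eq, Nat.beq_eq] at h14
  refine ⟨h14.1, ?_⟩
  exact Nat.eq_of_mul_eq_mul_left (Nat.pos_of_ne_zero hdN) h14.2

end Cfsg.Agent.H352.Cd
end

private theorem dce_2b6452b63521 : _root_.True := by
  try have : _root_.True := by simp only [_root_.Cfsg.Agent.H352.Cd.TL.eq_1]
  try have : _root_.True := by simp only [_root_.Cfsg.Agent.H352.Cd.PL.eq_1]
  exact _root_.True.intro
end

-- part: H66/Cod/Exc
section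
prune_inst 0x80000000000000400000000000000000000000000000000000000000000800000000020000800000400000000000000010000000000000000000000000440002200108000000002000000000000000000000000000000000000000000000000
set_option linter.all false
open scoped Cfsg.Agent.FastGrp

-- part: H352/Cd/Alt
section
/-!
# Codegrees (S3538, S3539): the alternating groups (helper352)
-/

set_option autoImplicit false
set_option exponentiation.threshold 2000

namespace Cfsg.Agent.H352.Cd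

open Cfsg.Agent.H902.Art Cfsg.Agent.H66.Cod Finset

/-- the primes up to `173` -/
def PA : List ℕ := [2, 3, 5, 7, 11, 13, 17, 19, 23, 29, 31, 37, 41, 43, 47, 53, 59, 61, 67, 71, 73, 79, 83, 89, 97, 101,
  103, 107, 109, 113, 127, 131, 137, 139, 149, 151, 157, 163, 167, 173]

theorem mem_PA {p : ℕ} (hp : p.Prime) (h : p ≤ 174) : p ∈ PA := by
  have h2 := hp.two_le
  interval_cases p <;> first | (simp only [PA, _root_.List.mem_cons, _root_.Nat.reduceEqDiff, _root_.List.not_mem_nil, _root_.or_self, _root_.or_false, _root_.Nat.succ_ne_self, _root_.or_true]; done) | (exfalso; revert hp; norm_num; done)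

/-- the admissible outcomes -/
noncomputable def resA (m T d : ℕ) : Bool :=
  or (and (or (Nat.beq m 7) (Nat.beq m 8)) (Nat.beq T (Nat.mul d 20160))) (and (Nat.beq m 10) (Nat.beq T (Nat.mul d 987033600)))

/-- the test for `T = d N`, `F = m !` -/
noncomputable def testA (T d m F : ℕ) : Bool :=
  cond (Nat.ble (Nat.mul (Nat.mul d F) (Nat.pow 2 m)) (Nat.mul 2 T)) true
    (cond (Nat.beq (Nat.mod (Nat.mul 2 T) (Nat.mul d F)) 0)
      (cond (Nat.ble (Nat.mul (Nat.mul d F) F) (Nat.mul (Nat.mul 2 T) (Nat.mul 2 (Nat.pow (Nat.sub m 1) 2)))) true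
        (resA m T d)) true)

/-- the loop -/
noncomputable def goA (T d : ℕ) (n : ℕ) : ℕ → ℕ → Bool :=
  Nat.rec (motive := fun _ => ℕ → ℕ → Bool) (fun _ _ => true)
    (fun _ ih m F => cond (Nat.ble (Nat.succ (Nat.mul 2 T)) (Nat.mul d F)) true
      (and (testA T d m F) (ih (Nat.succ m) (Nat.mul (Nat.succ m) F)))) n

theorem goA_succ (T d n m F : ℕ) : goA T d (n + 1) m F =
    cond (Nat.ble (Nat.succ (Nat.mul 2 T)) (Nat.mul d F)) true
      (and (testA T d m F) (goA T d n (Nat.succ m) (Nat.mul (Nat.succ m) F))) := rfl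

theorem goA_spec {T d : ℕ} {m' : ℕ} (hT : d * m'.factorial ≤ 2 * T) : ∀ (n m F : ℕ), goA T d n m F = true →
    F = m.factorial → m ≤ m' → m' < m + n → testA T d m' m'.factorial = true := by
  intro n
  induction n with
  | zero => intro m F _ _ h1 h2; omega
  | succ n ih =>
    intro m F h hF h1 h2
    rw [goA_succ] at h
    have h3 : Nat.ble (Nat.succ (Nat.mul 2 T)) (Nat.mul d F) = false := by
      rw [← Bool.not_eq_true, Nat.ble_eq, not_le, hF]
      have h4 : d * m.factorial ≤ d * m'.factorial := Nat.mul_le_mul_left d (Nat.factorial_le h1)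
      exact Nat.lt_succ_of_le (h4.trans hT)
    rw [h3, cond_false, Bool.and_eq_true] at h
    rcases Nat.eq_or_lt_of_le h1 with h5 | h5
    · rw [← h5, ← hF]
      exact h.1
    · refine ih (m + 1) _ h.2 ?_ h5 (by omega)
      rw [hF, Nat.factorial_succ]
      rfl

/-- the enumeration -/
noncomputable def allA : Bool :=
  PA.all fun p => TL.all fun X => (List.range (Nat.div 357 (NN X))).all fun i =>
    cond (Nat.ble (Nat.pow 2 347) (Nat.pow p (Nat.mul (Nat.succ i) (NN X)))) true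
      (goA (TT X (Nat.pow p (Nat.succ i))) (dd X (Nat.pow p (Nat.succ i))) 170 5 120)

/-- the loop, stopped as soon as `d F` does not divide `2 T` -/
private noncomputable def goB (T d : ℕ) (n : ℕ) : ℕ → ℕ → Bool :=
  Nat.rec (motive := fun _ => ℕ → ℕ → Bool) (fun _ _ => true)
    (fun _ ih m F => cond (Nat.beq (Nat.mod (Nat.mul 2 T) (Nat.mul d F)) 0)
      (and (testA T d m F) (ih (Nat.succ m) (Nat.mul (Nat.succ m) F))) true) n

private theorem goA_of_not_dvd {T d : ℕ} : ∀ (n m F : ℕ), ¬ d * F ∣ 2 * T → goA T d n m F = true := by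
  intro n
  induction n with
  | zero => intro _ _ _; rfl
  | succ n ih =>
    intro m F h
    have h1 : Nat.beq (Nat.mod (Nat.mul 2 T) (Nat.mul d F)) 0 = false := by
      cases hb : Nat.beq (Nat.mod (Nat.mul 2 T) (Nat.mul d F)) 0 with
      | false => rfl
      | true => exact absurd (Nat.dvd_of_mod_eq_zero (Nat.eq_of_beq_eq_true hb)) h
    have h2 : testA T d m F = true := by
      unfold testA
      rw [h1, cond_false]
      cases Nat.ble (Nat.mul (Nat.mul d F) (Nat.pow 2 m)) (Nat.mul 2 T) <;> rfl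
    have h3 : goA T d n (Nat.succ m) (Nat.mul (Nat.succ m) F) = true :=
      ih _ _ fun h4 => h ((Nat.mul_dvd_mul_left d (Nat.dvd_mul_left F (Nat.succ m))).trans h4)
    rw [goA_succ, h2, h3]
    cases Nat.ble (Nat.succ (Nat.mul 2 T)) (Nat.mul d F) <;> rfl

private theorem goA_of_goB {T d : ℕ} : ∀ (n m F : ℕ), goB T d n m F = true → goA T d n m F = true := by
  intro n
  induction n with
  | zero => intro _ _ _; rfl
  | succ n ih =>
    intro m F h
    have h1 : cond (Nat.beq (Nat.mod (Nat.mul 2 T) (Nat.mul d F)) 0)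
      (and (testA T d m F) (goB T d n (Nat.succ m) (Nat.mul (Nat.succ m) F))) true = true := h
    cases hb : Nat.beq (Nat.mod (Nat.mul 2 T) (Nat.mul d F)) 0 with
    | false =>
      refine goA_of_not_dvd _ _ _ fun h2 => ?_
      have h3 : Nat.mod (Nat.mul 2 T) (Nat.mul d F) = 0 := Nat.mod_eq_zero_of_dvd h2
      rw [h3] at hb
      exact absurd hb (by decide)
    | true =>
      rw [hb, cond_true, Bool.and_eq_true] at h1
      rw [goA_succ, h1.1, ih _ _ h1.2]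
      cases Nat.ble (Nat.succ (Nat.mul 2 T)) (Nat.mul d F) <;> rfl

set_option maxRecDepth 100000 in
private theorem allB_true : (PA.all fun p => TL.all fun X => (List.range (Nat.div 357 (NN X))).all fun i =>
    cond (Nat.ble (Nat.pow 2 347) (Nat.pow p (Nat.mul (Nat.succ i) (NN X)))) true
      (goB (TT X (Nat.pow p (Nat.succ i))) (dd X (Nat.pow p (Nat.succ i))) 170 5 120)) = true := by
  decide +kernel

theorem allA_true : allA = true := by
  refine List.all_eq_true.2 fun p hp => List.all_eq_true.2 fun X hX => List.all_eq_true.2 fun i hi => ?_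
  have h := List.all_eq_true.1 (List.all_eq_true.1 (List.all_eq_true.1 allB_true p hp) X hX) i hi
  revert h
  cases Nat.ble (Nat.pow 2 347) (Nat.pow p (Nat.mul (Nat.succ i) (NN X)))
  · rw [cond_false, cond_false]
    exact goA_of_goB _ _ _
  · exact id

theorem fact_ge : ∀ k : ℕ, 2 ^ (6 * (175 + k) - 2) ≤ (175 + k).factorial := by
  intro k
  induction k with
  | zero => decide +kernel
  | succ k ih =>
    rw [← Nat.add_assoc, Nat.factorial_succ]
    have e1 : 6 * (175 + k + 1) - 2 = (6 * (175 + k) - 2) + 6 := by omega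
    rw [e1, pow_add, mul_comm]
    exact Nat.mul_le_mul (by omega) ih

theorem P_fact_le {p m : ℕ} (hp : p.Prime) (hm : 1 ≤ m) : P p m.factorial ≤ 2 ^ (m - 1) := by
  haveI : Fact p.Prime := ⟨hp⟩
  have h1 := sub_one_mul_padicValNat_factorial_lt_of_ne_zero (p := p) (n := m) (by omega)
  unfold P
  rw [Nat.factorization_def _ hp]
  have h2 : p ≤ 2 ^ (p - 1) := by
    have := Nat.lt_two_pow_self (n := p - 1)
    have := hp.one_lt
    omega
  calc p ^ padicValNat p m.factorial ≤ (2 ^ (p - 1)) ^ padicValNat p m.factorial := Nat.pow_le_pow_left h2 _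
    _ = 2 ^ ((p - 1) * padicValNat p m.factorial) := by rw [← pow_mul]
    _ ≤ 2 ^ (m - 1) := Nat.pow_le_pow_right (by norm_num) (by omega)

theorem alt_numeric {X : Cfsg.Agent.H902.Art.Sh} {p f m k N : ℕ} (hX : Cfsg.Agent.H66.Cod.Tgt X)
    (h : Cfsg.Agent.H902.Art.Real X p f N) (hm : 5 ≤ m) (hpm : p ≤ m) (hk : 2 * N = k * m.factorial)
    (h1 : k * (2 * (m - 1) ^ 2) < m.factorial) (h2 : k < 2 ^ m) :
    (m = 7 ∧ N = 20160) ∨ (m = 8 ∧ N = 20160) ∨ (m = 10 ∧ N = 987033600) := by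
  have hp := h.hp
  have hf := h.hf
  have hN0 : N ≠ 0 := h.M_ne
  have hF0 : m.factorial ≠ 0 := Nat.factorial_ne_zero m
  have hk0 : k ≠ 0 := by
    rintro rfl
    rw [zero_mul] at hk
    omega
  have hNN := Tgt.NN_pos hX
  -- the `p`-part
  have h3 : P p N < 2 ^ (2 * m - 1) := by
    have h4 : P p N ≤ P p (2 * N) := P_mono hp (by omega) (Dvd.intro_left 2 rfl)
    rw [hk, P_mul hk0 hF0] at h4
    have h5 : P p k ≤ k := P_le hk0
    have h6 := P_fact_le hp (show 1 ≤ m by omega)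
    have e : 2 ^ (2 * m - 1) = 2 ^ m * 2 ^ (m - 1) := by rw [← pow_add]; congr 1; omega
    rw [e]
    calc P p N ≤ P p k * P p m.factorial := h4
      _ ≤ k * 2 ^ (m - 1) := Nat.mul_le_mul h5 h6
      _ < 2 ^ m * 2 ^ (m - 1) := Nat.mul_lt_mul_of_pos_right h2 (by positivity)
  -- `m ≤ 174`
  have h4 : m ≤ 174 := by
    by_contra hcon
    obtain ⟨j, rfl⟩ := Nat.exists_eq_add_of_le (show 175 ≤ m by omega)
    have h5 := fact_ge j
    have h6 := h.lt_cube
    have h7 : (P p N) ^ 3 ≤ (2 ^ (2 * (175 + j) - 1)) ^ 3 := Nat.pow_le_pow_left h3.le 3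
    rw [← pow_mul] at h7
    have h8 : (175 + j).factorial ≤ 2 * N := by
      rw [hk]
      exact Nat.le_mul_of_pos_left _ (Nat.pos_of_ne_zero hk0)
    have e : 2 ^ (6 * (175 + j) - 2) = 2 * 2 ^ ((2 * (175 + j) - 1) * 3) := by
      rw [← pow_succ']; congr 1; omega
    rw [e] at h5
    have h9 := lt_of_lt_of_le h6 h7
    omega
  have h5 : p ^ (f * NN X) < 2 ^ 347 := by
    rw [pow_mul, ← h.P_self]
    exact lt_of_lt_of_le h3 (Nat.pow_le_pow_right (by norm_num) (by omega))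
  have h6 : f * NN X < 347 := by
    by_contra hcon
    have h9 : 2 ^ 347 ≤ p ^ (f * NN X) :=
      (Nat.pow_le_pow_right (by norm_num) (by omega)).trans (Nat.pow_le_pow_left hp.two_le _)
    exact absurd (lt_of_le_of_lt h9 h5) (lt_irrefl _)
  have h9 : NN X ≤ 357 := by nlinarith only [hf, h6]
  have h10 := allA_true
  unfold allA at h10
  rw [List.all_eq_true] at h10
  have h12 := h10 p (mem_PA hp (by omega))
  rw [List.all_eq_true] at h12
  have h13 := h12 X (mem_TL hX h9)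
  rw [List.all_eq_true] at h13
  have h14 := h13 (f - 1) (by
    rw [List.mem_range]
    have : f ≤ 357 / NN X := by
      rw [Nat.le_div_iff_mul_le (by omega)]
      omega
    show f - 1 < 357 / NN X
    omega)
  have e2 : Nat.succ (f - 1) = f := by omega
  rw [e2] at h14
  have e3 : Nat.ble (Nat.pow 2 347) (Nat.pow p (Nat.mul f (NN X))) = false := by
    rw [← Bool.not_eq_true, Nat.ble_eq]
    exact Nat.not_le.2 h5
  rw [e3, cond_false] at h14
  have e4 : TT X (Nat.pow p f) = dd X (p ^ f) * N := TT_eq h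
  have e5 : dd X (Nat.pow p f) = dd X (p ^ f) := rfl
  rw [e4, e5] at h14
  set d := dd X (p ^ f) with hd
  have hd0 : 0 < d := Nat.pos_of_ne_zero h.dd_ne
  have e6 : 2 * (d * N) = d * (k * m.factorial) := by rw [← hk]; ring
  have h15 := goA_spec (T := d * N) (d := d) (m' := m) (by
    rw [e6]
    exact Nat.mul_le_mul_left d (Nat.le_mul_of_pos_left _ (Nat.pos_of_ne_zero hk0))) 170 5 120 h14 rfl hm (by omega)
  unfold testA at h15
  have e7 : Nat.ble (Nat.mul (Nat.mul d m.factorial) (Nat.pow 2 m)) (Nat.mul 2 (d * N)) = false := by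
    rw [← Bool.not_eq_true, Nat.ble_eq, not_le]
    show 2 * (d * N) < d * m.factorial * 2 ^ m
    rw [e6]
    have : d * (k * m.factorial) = d * m.factorial * k := by ring
    rw [this]
    exact Nat.mul_lt_mul_of_pos_left h2 (Nat.mul_pos hd0 (Nat.pos_of_ne_zero hF0))
  have e8 : Nat.beq (Nat.mod (Nat.mul 2 (d * N)) (Nat.mul d m.factorial)) 0 = true := by
    rw [Nat.beq_eq]
    refine Nat.mod_eq_zero_of_dvd ?_
    show d * m.factorial ∣ 2 * (d * N)
    rw [e6]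
    exact Nat.mul_dvd_mul_left d (Dvd.intro_left k rfl)
  have e9 : Nat.ble (Nat.mul (Nat.mul d m.factorial) m.factorial)
      (Nat.mul (Nat.mul 2 (d * N)) (Nat.mul 2 (Nat.pow (Nat.sub m 1) 2))) = false := by
    rw [← Bool.not_eq_true, Nat.ble_eq, not_le]
    show 2 * (d * N) * (2 * (m - 1) ^ 2) < d * m.factorial * m.factorial
    rw [e6]
    have : d * (k * m.factorial) * (2 * (m - 1) ^ 2) = d * m.factorial * (k * (2 * (m - 1) ^ 2)) := by ring
    rw [this]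
    exact Nat.mul_lt_mul_of_pos_left h1 (Nat.mul_pos hd0 (Nat.pos_of_ne_zero hF0))
  rw [e7, cond_false, e8, cond_true, e9, cond_false] at h15
  unfold resA at h15
  rw [Bool.or_eq_true, Bool.and_eq_true, Bool.or_eq_true, Bool.and_eq_true, Nat.beq_eq, Nat.beq_eq, Nat.beq_eq,
    Nat.beq_eq, Nat.beq_eq] at h15
  have hc : ∀ {c : ℕ}, d * N = Nat.mul d c → N = c := fun h => Nat.eq_of_mul_eq_mul_left hd0 h
  rcases h15 with ⟨h15 | h15, h16⟩ | ⟨h15, h16⟩
  · exact Or.inl ⟨h15, hc h16⟩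
  · exact Or.inr (Or.inl ⟨h15, hc h16⟩)
  · exact Or.inr (Or.inr ⟨h15, hc h16⟩)

end Cfsg.Agent.H352.Cd
end

-- part: H66/Cod/Exc
section
/-!
# Codegrees of simple groups (helper66): the exceptional groups of large rank

`exc_iso` : a nonabelian simple group whose codegrees are codegrees of `F4(q)`, `E6(q)`, `E7(q)` or `E8(q)` is that group.
-/

set_option autoImplicit false
set_option linter.unusedSectionVars false

universe u v w

namespace Cfsg.Agent.H66.Cod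

open Cfsg Cfsg.Agent.H902 Cfsg.Agent.H902.Names Cfsg.Agent.Characters.Core Cfsg.Agent.H686.CharKit

/-- the shapes of the exceptional groups of large rank -/
def Ex (X : Art.Sh) : Prop := X = .F4 ∨ X = .E6 ∨ X = .E7 ∨ X = .E8

theorem Ex.tgt {X : Art.Sh} (h : Ex X) : Tgt X := Or.inr h

theorem exists_pf (F : Type w) [Field F] [Fintype F] : ∃ p f : ℕ, p.Prime ∧ 1 ≤ f ∧ Fintype.card F = p ^ f := by
  obtain ⟨p, f, hp, hf, h⟩ := (isPrimePow_nat_iff _).1 (Fintype.isPrimePow_card_of_field (α := F))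
  exact ⟨p, f, hp, hf, h.symm⟩

/-- the name of an exceptional group -/
theorem exc_name {F : Type w} [Field F] [Fintype F] {D : Lie.ChevalleyDatum}
    (hD : D ∈ [Lie.chevF4, Lie.chevE6, Lie.chevE7, Lie.chevE8]) {p f : ℕ} (hp : p.Prime) (hf : 1 ≤ f)
    (hF : Fintype.card F = p ^ f) : ∃ g X, Ex X ∧ Art.Real X p f (Nat.card ↥(D.group F)) ∧
      OrdDiv.Real g ↥(D.group F) ∧ ∀ g', IsLie g' X p f → g' = g := by
  have := Fact.mk hp
  have : Fintype (GaloisField p f) := Fintype.ofFinite _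
  have hK : Fintype.card (GaloisField p f) = p ^ f := by
    rw [← Nat.card_eq_fintype_card, GaloisField.card p f (by omega)]
  have e := Iso.chev_congr (FiniteField.ringEquivOfCardEq (hF.trans hK.symm)) D
  simp only [List.mem_cons, List.not_mem_nil, or_false] at hD
  rcases hD with rfl | rfl | rfl | rfl
  · refine ⟨.f4 (p ^ f), .F4, Or.inl rfl, ⟨hp, hf, trivial, ?_⟩,
      ⟨GaloisField p f, inferInstance, inferInstance, hK, e⟩, ?_⟩
    · rw [S1062.result hF]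
      change 1 * _ = (p ^ f) ^ 24 * (_ * _ * _ * _)
      ring
    · intro g' hg; cases hg; rfl
  · refine ⟨.e6 (p ^ f), .E6, Or.inr (Or.inl rfl), ⟨hp, hf, trivial, ?_⟩,
      ⟨GaloisField p f, inferInstance, inferInstance, hK, e⟩, ?_⟩
    · change Nat.gcd 3 (p ^ f - 1) * _ = (p ^ f) ^ 36 * (_ * _ * _ * _ * _ * _)
      rw [S1063.result hF]
      ring
    · intro g' hg; cases hg; rfl
  · refine ⟨.e7 (p ^ f), .E7, Or.inr (Or.inr (Or.inl rfl)), ⟨hp, hf, trivial, ?_⟩,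
      ⟨GaloisField p f, inferInstance, inferInstance, hK, e⟩, ?_⟩
    · change Nat.gcd 2 (p ^ f - 1) * _ = (p ^ f) ^ 63 * (_ * _ * _ * _ * _ * _ * _)
      rw [S1064.result hF]
      ring
    · intro g' hg; cases hg; rfl
  · refine ⟨.e8 (p ^ f), .E8, Or.inr (Or.inr (Or.inr rfl)), ⟨hp, hf, trivial, ?_⟩,
      ⟨GaloisField p f, inferInstance, inferInstance, hK, e⟩, ?_⟩
    · rw [S1065.result hF]
      change 1 * _ = (p ^ f) ^ 120 * (_ * _ * _ * _ * _ * _ * _ * _)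
      ring
    · intro g' hg; cases hg; rfl

theorem Ex.ge {X : Art.Sh} {p f N : ℕ} (h : Ex X) (hX : Art.Real X p f N) : p ^ 24 ∣ N := by
  have h1 : 24 ≤ Art.NN X := by rcases h with rfl | rfl | rfl | rfl <;> decide
  have h2 := Art.P_dvd p N
  rw [hX.P_self, ← pow_mul] at h2
  exact (pow_dvd_pow p (h1.trans (Nat.le_mul_of_pos_left _ hX.hf))).trans h2

theorem Ex.ne {X : Art.Sh} {p f N : ℕ} (h : Ex X) (hX : Art.Real X p f N) : N ≠ 20160 ∧ N ≠ 987033600 := by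
  have h1 := h.ge hX
  have hp := hX.hp
  constructor
  · rintro rfl
    have h2 := Nat.le_of_dvd (by norm_num) h1
    have h3 : 2 ^ 24 ≤ p ^ 24 := Nat.pow_le_pow_left hp.two_le 24
    norm_num at h3
    omega
  · rintro rfl
    have h2 := Nat.le_of_dvd (by norm_num) h1
    have h4 : p = 2 := by
      by_contra hne
      have h5 : 3 ≤ p := by
        have := hp.two_le
        omega
      have h3 : 3 ^ 24 ≤ p ^ 24 := Nat.pow_le_pow_left h5 24
      norm_num at h3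
      omega
    subst h4
    revert h1
    decide

/-- `k` is smaller than the number of conjugacy classes -/
theorem Cov.lt_classes {K : Type u} {L : Type v} [Group K] [Group L] [Finite K] [Finite L] [IsSimpleGroup K] [IsSimpleGroup L]
    {k : ℕ} (h : Cov K L k) : k < Nat.card (ConjClasses K) := by
  have h1 : ∀ χ : IrrCharacter K, χ ≠ H677.CodMultiset.one K → ∃ ψ : IrrCharacter L, ψ ≠ H677.CodMultiset.one L ∧
      charDegree (ψ : L → ℂ) = k * charDegree (χ : K → ℂ) := by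
    intro χ hχ
    obtain ⟨ψ, h2, h3⟩ := h.deg _ ⟨χ, fun h4 => hχ (Subtype.ext h4), rfl⟩
    exact ⟨ψ, fun h4 => h2 (congrArg Subtype.val h4), h3⟩
  exact H78.CodK.mult_lt h.card h1

/-- **The simple groups with the codegrees of an exceptional group.** -/
theorem exc_iso {F : Type w} [Field F] [Fintype F] {D : Lie.ChevalleyDatum}
    (hD : D ∈ [Lie.chevF4, Lie.chevE6, Lie.chevE7, Lie.chevE8]) {S : Type u} [Group S] [Finite S] [IsSimpleGroup S]
    (hS : ¬ ∀ a b : S, a * b = b * a) (hK : IsKnownSimple' S) {k : ℕ} (h : Cov S ↥(D.group F) k)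
    [IsSimpleGroup ↥(D.group F)] (hL : ¬ ∀ a b : ↥(D.group F), a * b = b * a) :
    Nonempty (S ≃* ↥(D.group F)) := by
  obtain ⟨p, f, hp, hf, hF⟩ := exists_pf F
  obtain ⟨g, X, hX, hR, hg, huniq⟩ := exc_name hD hp hf hF
  have := Fact.mk hp
  have hchar : CharP F p := H78.CodG.charP_of_card hp hF
  have hD' : D ∈ [Lie.chevG2, Lie.chevB2, Lie.chevD4, Lie.chevF4, Lie.chevE6, Lie.chevE7, Lie.chevE8] := by
    simp only [List.mem_cons, List.not_mem_nil, or_false] at hD ⊢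
    (clear * - hD; tauto)
  have hu : UniqDZ p ↥(D.group F) := uniqDZ_chev hD' p
  have hpS : p ∣ Nat.card S := h.dvd_card hS hu
  have hk0 := h.pos
  have hspor : (Lie.IsoTits S ∨ IsSporadicGroup S) → False := by
    intro h1
    have h2 := H495.Cod.spor_card h1
    obtain ⟨d, hd⟩ := exists_ndeg (K := S)
    have h3 := h.lt hL hd
    have h4 := (NDeg.facts hS hd).1
    have h5 : k * 2 ^ 2 ≤ k * d ^ 2 := Nat.mul_le_mul_left _ (Nat.pow_le_pow_left h4 2)
    have h6 := H352.Cd.spor_numeric hX.tgt hR h2 hpS h.card (by omega)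
    exact (hX.ne hR).2 h6.2
  rcases PreUniq.known_cases hK with h1 | h1 | ⟨r, hr, h1⟩ | h1 | h1
  · exfalso
    have : Fact (Nat.card S).Prime := ⟨h1⟩
    have : IsCyclic S := isCyclic_of_prime_card (p := Nat.card S) rfl
    exact hS fun a b => (IsCyclic.isMulCommutative (α := S)).is_comm.comm a b
  · -- alternating
    exfalso
    obtain ⟨m, hm, ⟨e⟩⟩ := h1
    have hc : 2 * Nat.card S = m.factorial := by
      rw [Nat.card_congr e.toEquiv]
      exact H495.Cod.two_mul_aN (by omega)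
    have hpm : p ≤ m := (hp.dvd_factorial).1 (hpS.trans ⟨2, by rw [← hc, mul_comm]⟩)
    have h2 := h.lt_classes
    have h3 : Nat.card (ConjClasses S) = Nat.card (ConjClasses (alternatingGroup (Fin m))) := by
      have hf1 : Function.Surjective (ConjClasses.map e.toMonoidHom) := ConjClasses.map_surjective e.surjective
      have hf2 : Function.Surjective (ConjClasses.map e.symm.toMonoidHom) :=
        ConjClasses.map_surjective e.symm.surjective
      exact le_antisymm (Nat.card_le_card_of_surjective _ hf2) (Nat.card_le_card_of_surjective _ hf1)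
    obtain ⟨h4, h5⟩ := S4198.result m hm
    have hk1 : k < 2 ^ m := lt_of_lt_of_le (show k < 2 ^ (m - 2) by omega) (Nat.pow_le_pow_right (by norm_num) (by omega))
    have hd : NDeg S (m - 1) := by
      obtain ⟨ψ, hψ, hψ1⟩ := H621.SymDeg.alt_irr hm e
      have hdeg : charDegree ψ = m - 1 := by
        rw [charDegree, hψ1, Complex.natCast_re, Nat.floor_natCast]
      refine ⟨⟨ψ, hψ⟩, ?_, hdeg⟩
      rintro (rfl : ψ = 1)
      rw [H495.Cod.charDegree_one] at hdeg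
      omega
    have h6 := h.lt hL hd
    have h7 : 2 * Nat.card ↥(D.group F) = k * m.factorial := by rw [h.card, ← hc]; ring
    have h8 : k * (2 * (m - 1) ^ 2) < m.factorial := by
      rw [← hc]
      calc k * (2 * (m - 1) ^ 2) = 2 * (k * (m - 1) ^ 2) := by ring
        _ < _ := by omega
    have h9 := H352.Cd.alt_numeric hX.tgt hR hm hpm h7 h8 hk1
    have h10 := hX.ne hR
    omega
  · -- Lie type
    obtain ⟨g', Y, f', hg', hR', hY⟩ := H364.LieNam.lie_nam OrdDiv.table hr h1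
    have hrS : r ∣ Nat.card S := by
      have h2 := Art.P_dvd r (Nat.card S)
      rw [hY.P_self, ← pow_mul] at h2
      exact (dvd_pow_self r (Nat.mul_pos hY.hf (Art.NN_pos hY)).ne').trans h2
    have hst := ndeg_steinberg hr h1 hrS
    have h3 := h.lt hL hst
    by_cases hrp : r = p
    · subst hrp
      rcases same_num hX.tgt hR hY h.card (h.same hr hu hst) with ⟨rfl, rfl⟩ | ⟨h2, -⟩
      · rw [huniq g' hg'] at hR'
        exact Iso.real_unique _ hR' hg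
      · exact absurd h2 (hX.ne hR).1
    · exfalso
      have h4 := H719.Dom4.dom4 hX hR hr hrp
      have h5 := hY.lt_cube
      have h6 : Art.P r (Nat.card S) ≤ Art.P r (Nat.card ↥(D.group F)) :=
        Art.P_mono hr Nat.card_pos.ne' (by rw [h.card]; exact dvd_mul_left _ _)
      set P := Art.P r (Nat.card S)
      have hP0 : 0 < P := Art.P_pos hr
      have h7 : k < P := by
        have h8 : k * P ^ 2 < P * P ^ 2 := by
          calc k * P ^ 2 < Nat.card S := h3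
            _ < P ^ 3 := h5
            _ = P * P ^ 2 := by ring
        exact Nat.lt_of_mul_lt_mul_right h8
      have h8 : Nat.card ↥(D.group F) < P ^ 4 := by
        rw [h.card]
        calc k * Nat.card S ≤ P * Nat.card S := Nat.mul_le_mul_right _ h7.le
          _ < P * P ^ 3 := Nat.mul_lt_mul_of_pos_left h5 hP0
          _ = P ^ 4 := by ring
      have h9 : P ^ 4 ≤ Art.P r (Nat.card ↥(D.group F)) ^ 4 := Nat.pow_le_pow_left h6 4
      omega
  · exact (hspor (Or.inl h1)).elim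
  · exact (hspor (Or.inr h1)).elim

end Cfsg.Agent.H66.Cod
end

private theorem dce_1d7e02cde0a3 : _root_.True := by
  try have : _root_.True := by simp only [_root_.Cfsg.Agent.H352.Cd.PA.eq_1]
  exact _root_.True.intro
end
end
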