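import Cfsg.Agent.H66.Cod.Exc
import Cfsg.Agent.H850.Cod.Reduce
import Cfsg.Agent.H12.KSch
import Cfsg.Agent.S0205
import Cfsg.Agent.S1054
import Cfsg.Agent.Prune
set_option linter.all false
prune_inst 0x7f00000000000000000000000000000000000000000000000000000000000000000000000000000000000000000000000000000000000000000000000000000000000000000000000000000000000000003fffffffffffffffffffffffffffbeffbdffffffff
open scoped Cfsg.Agent.FastGrp

/-!
# S3539: the assembly (helper66)

`asm` : a finite group whose codegrees are codegrees of `D.group F`, `D` of type `F₄, E₆, E₇, E₈`, is trivial or `D.group F`,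
from the classification and the two facts `CentralOK`, `NoncentralOK` of helper850.
-/

set_option autoImplicit false
set_option linter.unusedSectionVars false

universe u v w

namespace Cfsg.Agent.H66.Cod

open Cfsg Cfsg.Agent.H850.Cod

theorem cov_of_codOK {K : Type u} [Group K] [Finite K] [IsSimpleGroup K] {L : Type v} [Group L] [Finite L] [IsSimpleGroup L]
    (h : CodOK L K) : ∃ k, Cov K L k := by
  obtain ⟨k, hk, hd⟩ := h.simple
  refine ⟨k, hk, ?_⟩
  rintro d ⟨χ, hχ, rfl⟩
  exact hd χ hχ

theorem even_card' (K : Type u) [Group K] [Finite K] [IsSimpleGroup K] (h : ¬ IsMulCommutative K) : 2 ∣ Nat.card K := by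
  by_contra hne
  have h1 : Odd (Nat.card K) := by
    rw [← Nat.not_even_iff_odd, even_iff_two_dvd]
    exact hne
  have h2 := S0205.result h1
  apply h
  exact ⟨⟨fun a b => IsSimpleGroup.comm_iff_isSolvable.2 h2 a b⟩⟩

theorem asm {F : Type w} [Field F] [Fintype F] {D : Lie.ChevalleyDatum}
    (hD : D ∈ [Lie.chevF4, Lie.chevE6, Lie.chevE7, Lie.chevE8])
    (hcl : ∀ (K : Type u) [Group K] [Finite K] [IsSimpleGroup K], IsKnownSimple' K)
    (hC : CentralOK.{u} ↥(D.group F)) (hN : NoncentralOK.{u} ↥(D.group F))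
    {G : Type u} [Group G] [Finite G] [Nontrivial G] (h : CodOK ↥(D.group F) G) : Nonempty (G ≃* ↥(D.group F)) := by
  obtain ⟨hs, hc⟩ := S1054.result (F := F) D (List.mem_cons_of_mem _ hD)
  have hL : ¬ ∀ a b : ↥(D.group F), a * b = b * a := fun h1 => hc ⟨⟨h1⟩⟩
  refine reduce hL h ?_ (fun K _ _ _ hK => Schreier.Assembly.known K hK (hcl K)) (fun K _ _ _ hK => even_card' K hK) hC hN
  intro S _ _ _ hS hSc
  obtain ⟨k, hk⟩ := cov_of_codOK hSc
  exact exc_iso hD hS (hcl S) hk hL

end Cfsg.Agent.H66.Cod
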